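import Cfsg.Agent.Lib.J4Pres.Model.RelChecks
import Cfsg.Prelude.Def_Spor_J4

/-!
The presented fourth Janko group acts on the 112-dimensional space over two elements.
Letters of words: `0` is `x`, `1` is `y`, `2` is `y⁻¹`, `3` is `t`.
-/

set_option autoImplicit false
set_option maxRecDepth 100000

namespace Cfsg.Agent.J4Model

open Cfsg

theorem letters_length : ∀ k < 4, (letterRows k).length = 112 := by decide +kernel

theorem sq_x : wordMat [0, 0] = one 112 := by decide +kernel

theorem y_yinv : wordMat [1, 2] = one 112 := by decide +kernel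

theorem yinv_y : wordMat [2, 1] = one 112 := by decide +kernel

theorem sq_t : wordMat [3, 3] = one 112 := by decide +kernel

theorem app_one_row (A : List ℕ) (hA : A.length = 112) (i : Fin 112) :
    toVec 112 (app (2 ^ (i : ℕ)) A) = toMat 112 A i := by
  rw [toVec_app hA]
  have : toVec 112 (2 ^ (i : ℕ)) = Pi.single i 1 := by
    funext j
    simp only [toVec, Nat.testBit_two_pow]
    by_cases h : i = j
    · subst h; simp
    · rw [Pi.single_eq_of_ne (Ne.symm h), if_neg]
      simpa using fun e => h (Fin.ext e)
  rw [this, Matrix.single_one_vecMul]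
  rfl

theorem mat_pair {a b : ℕ} (ha : a < 4) (hb : b < 4) :
    toMat 112 (wordMat [a, b]) = toMat 112 (letterRows a) * toMat 112 (letterRows b) := by
  funext i
  have hi : (i : ℕ) < 112 := i.2
  show toVec 112 ((units.map fun e => appWord e [a, b]).getD i 0) = _
  rw [List.getD_eq_getElem _ _ (by simp [units, one])]
  simp only [units, one, List.getElem_map, List.getElem_range, appWord]
  rw [toVec_app (letters_length b hb), app_one_row _ (letters_length a ha)]
  rfl

/-- A generator as an invertible matrix. -/
def gl (a b : ℕ) (ha : a < 4) (hb : b < 4) (h : wordMat [a, b] = one 112)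
    (h' : wordMat [b, a] = one 112) : GL (Fin 112) (ZMod 2) where
  val := toMat 112 (letterRows a)
  inv := toMat 112 (letterRows b)
  val_inv := by rw [← mat_pair ha hb, h, toMat_one]
  inv_val := by rw [← mat_pair hb ha, h', toMat_one]

/-- The matrix of `x`. -/
def glX : GL (Fin 112) (ZMod 2) := gl 0 0 (by norm_num) (by norm_num) sq_x sq_x

/-- The matrix of `y`. -/
def glY : GL (Fin 112) (ZMod 2) := gl 1 2 (by norm_num) (by norm_num) y_yinv yinv_y

/-- The matrix of `t`. -/
def glT : GL (Fin 112) (ZMod 2) := gl 3 3 (by norm_num) (by norm_num) sq_t sq_t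

/-- The matrix of a letter. -/
def glLetter (k : ℕ) : GL (Fin 112) (ZMod 2) :=
  if k = 0 then glX else if k = 1 then glY else if k = 2 then glY⁻¹ else glT

theorem code_letter (k : ℕ) : Code (letterRows k) (glLetter k) := by
  unfold letterRows glLetter
  split_ifs
  · exact ⟨letters_length 0 (by norm_num), rfl⟩
  · exact ⟨letters_length 1 (by norm_num), rfl⟩
  · exact ⟨letters_length 2 (by norm_num), rfl⟩
  · exact ⟨letters_length 3 (by norm_num), rfl⟩

/-- The element of a word. -/
def glWord (w : List ℕ) : GL (Fin 112) (ZMod 2) := (w.map glLetter).prod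

theorem glWord_append (u w : List ℕ) : glWord (u ++ w) = glWord u * glWord w := by
  simp [glWord, List.prod_append]

theorem glWord_rep (n : ℕ) (w : List ℕ) : glWord (rep n w) = glWord w ^ n := by
  induction n with
  | zero => simp [rep, glWord]
  | succ n ih => rw [rep, glWord_append, ih, pow_succ]

theorem vecMul_appWord : ∀ (w : List ℕ) (v : ℕ),
    Matrix.vecMul (toVec 112 v) (glWord w : Matrix (Fin 112) (Fin 112) (ZMod 2)) =
      toVec 112 (appWord v w)
  | [], v => by simp [glWord, appWord]
  | k :: w, v => by
    have e : glWord (k :: w) = glLetter k * glWord w := by simp [glWord]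
    rw [e, Units.val_mul, ← Matrix.vecMul_vecMul, (code_letter k).vecMul, appWord, vecMul_appWord w]

theorem code_word (w : List ℕ) : Code (wordMat w) (glWord w) := by
  refine ⟨by simp [wordMat, units, one], ?_⟩
  funext i
  show _ = toVec 112 ((units.map fun e => appWord e w).getD i 0)
  rw [List.getD_eq_getElem _ _ (by simp [units, one])]
  simp only [units, one, List.getElem_map, List.getElem_range]
  rw [← vecMul_appWord]
  have : toVec 112 (2 ^ (i : ℕ)) = Pi.single i 1 := by
    funext j
    simp only [toVec, Nat.testBit_two_pow]
    by_cases h : i = j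
    · subst h; simp
    · rw [Pi.single_eq_of_ne (Ne.symm h), if_neg]
      simpa using fun e => h (Fin.ext e)
  rw [this, Matrix.single_one_vecMul]
  rfl

theorem glWord_eq_one {w : List ℕ} (h : wordMat w = one 112) : glWord w = 1 :=
  (code_word w).eq (h ▸ code_one 112)

theorem glWord_eq {u w : List ℕ} (h : wordMat u = wordMat w) : glWord u = glWord w :=
  (code_word u).eq (h ▸ code_word w)

theorem glLetter_inv : ∀ k < 4,
    glLetter (if k = 1 then 2 else if k = 2 then 1 else k) = (glLetter k)⁻¹ := by
  intro k hk
  interval_cases k <;> simp [glLetter]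
  · exact (inv_eq_of_mul_eq_one_right (Units.ext (by
      show toMat 112 (letterRows 0) * toMat 112 (letterRows 0) = 1
      rw [← mat_pair (by norm_num) (by norm_num), sq_x, toMat_one]))).symm
  · exact (inv_eq_of_mul_eq_one_right (Units.ext (by
      show toMat 112 (letterRows 3) * toMat 112 (letterRows 3) = 1
      rw [← mat_pair (by norm_num) (by norm_num), sq_t, toMat_one]))).symm

/-- The images of the generators. -/
def genMat : Spor.J4.Gen → GL (Fin 112) (ZMod 2)
  | .x => glX
  | .y => glY
  | .t => glT

theorem glWord_winv {w : List ℕ} (h : ∀ k ∈ w, k < 4) : glWord (winv w) = (glWord w)⁻¹ := by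
  induction w with
  | nil => simp [winv, glWord]
  | cons k w ih =>
    have hk := h k List.mem_cons_self
    have e : winv (k :: w) = winv w ++ [if k = 1 then 2 else if k = 2 then 1 else k] := by simp [winv]
    rw [e, glWord_append, ih fun j hj => h j (List.mem_cons_of_mem _ hj)]
    have e1 : glWord [if k = 1 then 2 else if k = 2 then 1 else k] = (glLetter k)⁻¹ := by
      simpa [glWord] using glLetter_inv k hk
    have e2 : glWord (k :: w) = glLetter k * glWord w := by simp [glWord]
    rw [e1, e2, mul_inv_rev]

theorem relators_hold : ∀ r ∈ (Spor.coxRelators Spor.J4.edges ∪ {r | r ∈ Spor.J4.extra}),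
    FreeGroup.lift genMat r = 1 := by
  have hx : glLetter 0 = glX := rfl
  have hy : glLetter 1 = glY := rfl
  have hy' : glLetter 2 = glY⁻¹ := rfl
  have ht : glLetter 3 = glT := rfl
  have hxi : glX⁻¹ = glX := (glLetter_inv 0 (by norm_num)).symm.trans rfl
  have hti : glT⁻¹ = glT := (glLetter_inv 3 (by norm_num)).symm.trans rfl
  rintro r (⟨a, hx0, -⟩ | hr)
  · simp [Spor.coxNodes, Spor.J4.edges] at hx0
  · simp only [Spor.J4.extra, Set.mem_ofPred_eq, List.mem_cons, List.not_mem_nil, or_false] at hr
    have hS : glWord wS = glY * glX * glY * ((glX * glY⁻¹) ^ 2) * ((glX * glY) ^ 3) := by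
      simp only [wS, glWord_append, glWord_rep]
      simp [glWord, hx, hy, hy', mul_assoc]
    have hL : glWord wLine = glY * glX * glY⁻¹ * glX * glY * glX * glY⁻¹ * glX := by
      simp [wLine, glWord, hx, hy, hy', mul_assoc]
    have hF : glWord wFour = (glY * glX * glY * glX * glY * glX * glY) ^ 3 := by
      simp only [wFour, glWord_rep]
      simp [glWord, hx, hy, mul_assoc]
    have hW : glWord wLast = (glX * glY) ^ 3 * glY * (glX * glY) ^ 6 * glY := by
      simp only [wLast, glWord_append, glWord_rep]
      simp [glWord, hx, hy, mul_assoc]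
    rcases hr with rfl | rfl | rfl | rfl | rfl | rfl | rfl | rfl | rfl | rfl | rfl | rfl <;>
      simp only [map_mul, map_pow, map_inv, FreeGroup.lift_apply_of, genMat, Spor.J4.x, Spor.J4.y,
        Spor.J4.t]
    · rw [pow_two]; simpa [glWord, hx] using glWord_eq_one sq_x
    · have h := glWord_eq_one rel_y
      simp only [glWord_append, glWord_rep] at h
      simpa [glWord, hy] using h
    · have h := glWord_eq_one rel_xy
      simp only [glWord_append, glWord_rep] at h
      simpa [glWord, hx, hy, mul_assoc] using h
    · have h := glWord_eq_one rel_c12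
      simp only [glWord_append, glWord_rep] at h
      simpa [glWord, hx, hy, hy', hxi, mul_assoc] using h
    · have h := glWord_eq_one rel_c5
      simp only [glWord_append, glWord_rep] at h
      simpa [glWord, hx, hy, hy', hxi, mul_assoc] using h
    · have h := glWord_eq_one rel_six
      simp only [glWord_append, glWord_rep] at h
      simpa [glWord, hx, hy, hy', mul_assoc] using h
    · have h := glWord_eq_one rel_seven
      simp only [glWord_append, glWord_rep] at h
      simpa [glWord, hx, hy, hy', mul_assoc] using h
    · rw [pow_two]; simpa [glWord, ht] using glWord_eq_one sq_t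
    · have h := glWord_eq_one rel_ts
      rw [glWord_append, glWord_append, glWord_append, glWord_winv (by decide), hS] at h
      simpa [glWord, ht, hti, mul_assoc] using h
    · simpa [glWord, hx, ht, hxi, hti, mul_assoc] using glWord_eq_one rel_tx
    · have h := glWord_eq_one rel_line
      rw [glWord_rep, glWord_append, glWord_append, glWord_append, glWord_winv (by decide), hL] at h
      simpa [glWord, hy, ht, mul_assoc] using h
    · have h := glWord_eq_one rel_last
      simp only [glWord_rep, glWord_append] at h
      rw [glWord_winv (by decide), hF, hW] at h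
      simpa [glWord, ht, mul_assoc] using h

/-- **The representation.** -/
def rho : Spor.J4 →* GL (Fin 112) (ZMod 2) := PresentedGroup.toGroup relators_hold

end Cfsg.Agent.J4Model
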