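import Mathlib.GroupTheory.Index
import Mathlib.GroupTheory.Sylow
import Mathlib.Data.Nat.Bitwise
import Mathlib.Tactic

/-!
Group lemmas for the lower bound on the presented fourth Janko group: joins with an element of prime order,
products of commuting involutions selected by bits, fixed elements of commuting involutions.
-/

set_option autoImplicit false

namespace Cfsg.Agent.J4Model

open scoped Pointwise

variable {G : Type*} [Group G]

/-- A normalised subgroup joined with an element of prime order outside it. -/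
theorem card_sup_zpowers [Finite G] {A : Subgroup G} {b : G} {p : ℕ} (hp : p.Prime) (hb : b ^ p = 1)
    (hn : ∀ a ∈ A, b * a * b⁻¹ ∈ A) (hni : b ∉ A) :
    Nat.card ↥(A ⊔ Subgroup.zpowers b) = Nat.card A * p := by
  haveI := Fact.mk hp
  have hb1 : b ≠ 1 := fun e => hni (e ▸ one_mem A)
  have ho : orderOf b = p := orderOf_eq_prime hb hb1
  have hnorm : b ∈ Subgroup.normalizer (A : Set G) := Subgroup.mem_normalizer_iff.2 fun a => by
    refine ⟨hn a, fun ha => ?_⟩
    have hit : ∀ n : ℕ, ∀ c ∈ A, b ^ n * c * (b ^ n)⁻¹ ∈ A := by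
      intro n
      induction n with
      | zero => intro c hc; simpa using hc
      | succ n ih =>
        intro c hc
        have := hn _ (ih c hc)
        convert this using 1
        rw [pow_succ']; group
    have := hit (p - 1) _ ha
    have e : b ^ (p - 1) * b = 1 := by rw [← pow_succ, Nat.sub_add_cancel hp.one_le, hb]
    convert this using 1
    calc a = b ^ (p - 1) * b * a * (b ^ (p - 1) * b)⁻¹ := by rw [e]; group
      _ = _ := by group
  have hle : Subgroup.zpowers b ≤ Subgroup.normalizer (A : Set G) := Subgroup.zpowers_le.2 hnorm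
  have hinter : A ⊓ Subgroup.zpowers b = ⊥ := by
    have hcard : Nat.card (Subgroup.zpowers b) = p := by rw [Nat.card_zpowers, ho]
    rcases (Nat.dvd_prime hp).1 (hcard ▸ Subgroup.card_dvd_of_le
      (inf_le_right : A ⊓ Subgroup.zpowers b ≤ Subgroup.zpowers b)) with h | h
    · exact Subgroup.card_eq_one.1 h
    · exfalso
      have := Subgroup.eq_of_le_of_card_ge
        (inf_le_right : A ⊓ Subgroup.zpowers b ≤ Subgroup.zpowers b) (by rw [h, hcard])
      exact hni (this.ge (Subgroup.mem_zpowers b)).1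
  have hmul : ((A ⊔ Subgroup.zpowers b : Subgroup G) : Set G) = (A : Set G) * (Subgroup.zpowers b : Set G) :=
    Subgroup.coe_mul_of_right_le_normalizer_left A _ hle
  let f : A × Subgroup.zpowers b → ↥(A ⊔ Subgroup.zpowers b) := fun z =>
    ⟨z.1.1 * z.2.1, Subgroup.mul_mem_sup z.1.2 z.2.2⟩
  have hf : Function.Bijective f := by
    constructor
    · intro z w h
      have h' : z.1.1 * z.2.1 = w.1.1 * w.2.1 := congrArg Subtype.val h
      have e : w.1.1⁻¹ * z.1.1 = w.2.1 * z.2.1⁻¹ := by
        rw [eq_mul_inv_iff_mul_eq, mul_assoc, h', inv_mul_cancel_left]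
      have hm : w.1.1⁻¹ * z.1.1 ∈ A ⊓ Subgroup.zpowers b :=
        Subgroup.mem_inf.2 ⟨mul_mem (inv_mem w.1.2) z.1.2, e ▸ mul_mem w.2.2 (inv_mem z.2.2)⟩
      rw [hinter, Subgroup.mem_bot] at hm
      have h1 : z.1.1 = w.1.1 := (inv_mul_eq_one.1 hm).symm
      refine Prod.ext (Subtype.ext h1) (Subtype.ext ?_)
      rw [h1] at h'
      exact mul_left_cancel h'
    · rintro ⟨g, hg⟩
      have : g ∈ (A : Set G) * (Subgroup.zpowers b : Set G) := hmul ▸ hg
      obtain ⟨a, ha, c, hc, rfl⟩ := this
      exact ⟨(⟨a, ha⟩, ⟨c, hc⟩), rfl⟩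
  rw [← Nat.card_eq_of_bijective f hf, Nat.card_prod, Nat.card_zpowers, ho]

/-- The product of the elements selected by the bits. -/
def selEl : List G → ℕ → G
  | [], _ => 1
  | u :: us, e => (bif Nat.beq (e % 2) 1 then u else 1) * selEl us (e / 2)

theorem selEl_mem {K : Subgroup G} : ∀ {us : List G}, (∀ u ∈ us, u ∈ K) → ∀ e, selEl us e ∈ K
  | [], _, _ => one_mem K
  | u :: us, h, e => by
    rw [selEl]
    refine mul_mem ?_ (selEl_mem (fun w hw => h w (List.mem_cons_of_mem _ hw)) _)
    cases Nat.beq (e % 2) 1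
    · exact one_mem K
    · exact h u List.mem_cons_self

theorem selEl_zero : ∀ us : List G, selEl us 0 = 1
  | [] => rfl
  | u :: us => by rw [selEl, Nat.zero_div, selEl_zero us, mul_one]; rfl

theorem selEl_xor : ∀ {us : List G}, (∀ u ∈ us, u * u = 1) → (∀ u ∈ us, ∀ w ∈ us, u * w = w * u) →
    ∀ e f, selEl us (e ^^^ f) = selEl us e * selEl us f
  | [], _, _, _, _ => (one_mul 1).symm
  | u :: us, hs, hc, e, f => by
    have hs' := hs u List.mem_cons_self
    have hrest : ∀ a, u * selEl us a = selEl us a * u := by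
      intro a
      have : selEl us a ∈ Subgroup.centralizer {u} :=
        selEl_mem (fun w hw => Subgroup.mem_centralizer_singleton_iff.2
          ((hc u List.mem_cons_self w (List.mem_cons_of_mem _ hw)).symm)) a
      exact (Subgroup.mem_centralizer_singleton_iff.1 this).symm
    have hdiv : (e ^^^ f) / 2 = (e / 2) ^^^ (f / 2) := by
      refine Nat.eq_of_testBit_eq fun i => ?_
      simp only [Nat.testBit_xor, Nat.testBit_div_two]
    have hmod : (e ^^^ f) % 2 = (e % 2 + f % 2) % 2 := by
      have h0 : (e ^^^ f).testBit 0 = (e.testBit 0 ^^ f.testBit 0) := Nat.testBit_xor ..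
      simp only [Nat.testBit_zero] at h0
      rcases Nat.mod_two_eq_zero_or_one (e ^^^ f) with h | h <;>
        rcases Nat.mod_two_eq_zero_or_one e with h1 | h1 <;>
          rcases Nat.mod_two_eq_zero_or_one f with h2 | h2 <;> simp [h, h1, h2] at h0 ⊢
    simp only [selEl, hdiv, hmod,
      selEl_xor (fun w hw => hs w (List.mem_cons_of_mem _ hw))
        (fun w hw z hz => hc w (List.mem_cons_of_mem _ hw) z (List.mem_cons_of_mem _ hz)) (e / 2) (f / 2)]
    have b0 : Nat.beq 0 1 = false := rfl
    have b1 : Nat.beq 1 1 = true := rfl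
    rcases Nat.mod_two_eq_zero_or_one e with h1 | h1 <;>
      rcases Nat.mod_two_eq_zero_or_one f with h2 | h2 <;> simp [h1, h2, b0, b1]
    · rw [← mul_assoc, hrest, mul_assoc]
    · rw [mul_assoc]
    · calc selEl us (e / 2) * selEl us (f / 2)
          = selEl us (e / 2) * (u * u) * selEl us (f / 2) := by rw [hs', mul_one]
        _ = (selEl us (e / 2) * u) * (u * selEl us (f / 2)) := by group
        _ = u * selEl us (e / 2) * (u * selEl us (f / 2)) := by rw [← hrest (e / 2)]

theorem selEl_pow : ∀ (us : List G) (i : ℕ), i < us.length → selEl us (2 ^ i) = us.getD i 1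
  | [], i, h => by simp at h
  | u :: us, i, h => by
    cases i with
    | zero => simp [selEl, selEl_zero, Nat.beq]
    | succ i =>
      have e1 : 2 ^ (i + 1) % 2 = 0 := by simp [Nat.pow_succ]
      have e2 : 2 ^ (i + 1) / 2 = 2 ^ i := by simp [Nat.pow_succ]
      rw [selEl, e1, e2, selEl_pow us i (by simpa using h)]
      simp [Nat.beq]

/-- Every element of the subgroup generated by commuting involutions is selected by a mask. -/
theorem exists_selEl {us : List G} (hs : ∀ u ∈ us, u * u = 1)
    (hc : ∀ u ∈ us, ∀ w ∈ us, u * w = w * u) {g : G} (hg : g ∈ Subgroup.closure {u | u ∈ us}) :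
    ∃ e < 2 ^ us.length, selEl us e = g := by
  induction hg using Subgroup.closure_induction with
  | mem u hu =>
    obtain ⟨i, hi, rfl⟩ := List.mem_iff_getElem.1 hu
    exact ⟨2 ^ i, Nat.pow_lt_pow_right (by norm_num) hi,
      by rw [selEl_pow us i hi, List.getD_eq_getElem _ _ hi]⟩
  | one => exact ⟨0, Nat.two_pow_pos _, selEl_zero us⟩
  | mul a b _ _ iha ihb =>
    obtain ⟨e, he, rfl⟩ := iha
    obtain ⟨f, hf, rfl⟩ := ihb
    exact ⟨e ^^^ f, Nat.xor_lt_two_pow he hf, selEl_xor hs hc e f⟩
  | inv a _ iha =>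
    obtain ⟨e, he, rfl⟩ := iha
    exact ⟨e, he, (inv_eq_of_mul_eq_one_right (by rw [← selEl_xor hs hc, Nat.xor_self, selEl_zero])).symm⟩

theorem selEl_injective [Finite G] {us : List G} (hs : ∀ u ∈ us, u * u = 1)
    (hc : ∀ u ∈ us, ∀ w ∈ us, u * w = w * u)
    (hcard : Nat.card ↥(Subgroup.closure {u | u ∈ us}) = 2 ^ us.length) :
    ∀ e < 2 ^ us.length, ∀ f < 2 ^ us.length, selEl us e = selEl us f → e = f := by
  let F : Fin (2 ^ us.length) → ↥(Subgroup.closure {u | u ∈ us}) := fun e =>
    ⟨selEl us e, selEl_mem (fun u hu => Subgroup.subset_closure hu) e⟩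
  have hsur : Function.Surjective F := by
    rintro ⟨g, hg⟩
    obtain ⟨e, he, h⟩ := exists_selEl hs hc hg
    exact ⟨⟨e, he⟩, Subtype.ext h⟩
  have hb := hsur.bijective_of_nat_card_le (le_of_eq (by rw [Nat.card_fin, hcard]))
  exact fun e he f hf h => congrArg Fin.val (hb.1 (a₁ := ⟨e, he⟩) (a₂ := ⟨f, hf⟩) (Subtype.ext h))

/-- Commuting involutions acting on a nontrivial elementary abelian normalised subgroup have a common
fixed element. -/
theorem exists_common_fixed {W : Subgroup G} (hW : W ≠ ⊥) (hsq : ∀ w ∈ W, w * w = 1)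
    (hcomm : ∀ w ∈ W, ∀ z ∈ W, w * z = z * w) :
    ∀ as : List G, (∀ a ∈ as, a * a = 1) → (∀ a ∈ as, ∀ b ∈ as, a * b = b * a) →
      (∀ a ∈ as, ∀ w ∈ W, a * w * a ∈ W) → ∃ w ∈ W, w ≠ 1 ∧ ∀ a ∈ as, a * w * a = w
  | [], _, _, _ => by
    obtain ⟨w, hw, hne⟩ := W.bot_or_exists_ne_one.resolve_left hW
    exact ⟨w, hw, hne, by simp⟩
  | a :: as, ha2, hac, han => by
    obtain ⟨w, hw, hne, hfix⟩ := exists_common_fixed hW hsq hcomm as
      (fun b hb => ha2 b (List.mem_cons_of_mem _ hb))
      (fun b hb c hc => hac b (List.mem_cons_of_mem _ hb) c (List.mem_cons_of_mem _ hc))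
      (fun b hb => han b (List.mem_cons_of_mem _ hb))
    by_cases h : a * w * a = w
    · exact ⟨w, hw, hne, List.forall_mem_cons.2 ⟨h, hfix⟩⟩
    · have hwa := han a List.mem_cons_self w hw
      refine ⟨w * (a * w * a), mul_mem hw hwa, fun e => h ?_, List.forall_mem_cons.2 ⟨?_, fun b hb => ?_⟩⟩
      · rw [eq_inv_of_mul_eq_one_right e, inv_eq_of_mul_eq_one_right (hsq w hw)]
      · have e2 := ha2 a List.mem_cons_self
        calc a * (w * (a * w * a)) * a = (a * w * a) * w * (a * a) := by group
          _ = w * (a * w * a) := by rw [e2, mul_one, hcomm _ hwa w hw]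
      · have hb2 := ha2 b (List.mem_cons_of_mem _ hb)
        have hab := hac a List.mem_cons_self b (List.mem_cons_of_mem _ hb)
        have hf := hfix b hb
        have e1 : b * (a * w * a) * b = a * w * a := by
          calc b * (a * w * a) * b = (b * a) * w * (a * b) := by group
            _ = (a * b) * w * (b * a) := by rw [hab]
            _ = a * (b * w * b) * a := by group
            _ = a * w * a := by rw [hf]
        calc b * (w * (a * w * a)) * b = (b * w * b) * (b * b)⁻¹ * (b * (a * w * a) * b) := by group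
          _ = w * (a * w * a) := by rw [hb2, hf, e1, inv_one, mul_one]

end Cfsg.Agent.J4Model
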