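import Cfsg.Agent.Lib.J4Pres.Model.Abstract

/-! A subgroup of order 1331 from three elements of order eleven. -/

set_option autoImplicit false

namespace Cfsg.Agent.J4Model

theorem dvd_1331_of {G : Type*} [Group G] [Finite G] (R : Subgroup G) {K A C : G} (hK : K ∈ R) (hC : C ∈ R) (hA : A = C * K * C⁻¹)
    (eK : K ^ 11 = 1) (eC : C ^ 11 = 1) (hKne : K ≠ 1) (eKA : K * A = A * K)
    (hnA : ∀ n < 11, A ≠ K ^ n) (eCA : C * A * C⁻¹ = K ^ 10 * (A * A)) (hCK : C * K ≠ K * C) :
    1331 ∣ Nat.card R := by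
  haveI := Fact.mk (show Nat.Prime 11 by norm_num)
  have c1 : Nat.card (Subgroup.zpowers K) = 11 := by rw [Nat.card_zpowers, orderOf_eq_prime eK hKne]
  have hA1 : A ∉ Subgroup.zpowers K := by
    intro h
    obtain ⟨m, hm⟩ := Submonoid.mem_powers_iff _ _ |>.1 (mem_powers_iff_mem_zpowers.2 h)
    have e : K ^ (m % 11) = A := by rw [← orderOf_eq_prime eK hKne, pow_mod_orderOf]; exact hm
    obtain ⟨n, hn, e⟩ : ∃ n, n < 11 ∧ K ^ n = A := ⟨m % 11, Nat.mod_lt _ (by norm_num), e⟩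
    exact hnA n hn e.symm
  have eA : A ^ 11 = 1 := by rw [hA, conj_pow, eK, mul_one, mul_inv_cancel]
  have hcK : ∀ a ∈ Subgroup.zpowers K, A * a * A⁻¹ ∈ Subgroup.zpowers K := by
    intro a ha
    obtain ⟨z, rfl⟩ := Subgroup.mem_zpowers_iff.1 ha
    have hcm : Commute A K := eKA.symm
    rw [(hcm.zpow_right z).eq, mul_inv_cancel_right]
    exact ha
  set E2 := Subgroup.zpowers K ⊔ Subgroup.zpowers A with hE2
  have c2 : Nat.card E2 = 121 := by rw [hE2, card_sup_zpowers (by norm_num) eA hcK hA1, c1]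
  have hC2 : C ∉ E2 := by
    intro h
    have : C ∈ Subgroup.centralizer {K} :=
      (sup_le (Subgroup.zpowers_le.2 (Subgroup.mem_centralizer_singleton_iff.2 rfl))
        (Subgroup.zpowers_le.2 (Subgroup.mem_centralizer_singleton_iff.2 eKA.symm)) : E2 ≤ _) h
    exact hCK (Subgroup.mem_centralizer_singleton_iff.1 this)
  have hcn : ∀ a ∈ E2, C * a * C⁻¹ ∈ E2 := by
    have hle : E2 ≤ E2.comap (MulAut.conj C).toMonoidHom := by
      refine sup_le (Subgroup.zpowers_le.2 ?_) (Subgroup.zpowers_le.2 ?_)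
      · show C * K * C⁻¹ ∈ E2
        rw [← hA]; exact Subgroup.mem_sup_right (Subgroup.mem_zpowers A)
      · show C * A * C⁻¹ ∈ E2
        rw [eCA]
        exact mul_mem (pow_mem (Subgroup.mem_sup_left (Subgroup.mem_zpowers K)) _)
          (mul_mem (Subgroup.mem_sup_right (Subgroup.mem_zpowers A))
            (Subgroup.mem_sup_right (Subgroup.mem_zpowers A)))
    exact fun a ha => hle ha
  have c3 := card_sup_zpowers (by norm_num : Nat.Prime 11) eC hcn hC2
  rw [c2] at c3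
  have hAR : A ∈ R := by rw [hA]; exact mul_mem (mul_mem hC hK) (inv_mem hC)
  have hle : E2 ⊔ Subgroup.zpowers C ≤ R :=
    sup_le (sup_le (Subgroup.zpowers_le.2 hK) (Subgroup.zpowers_le.2 hAR)) (Subgroup.zpowers_le.2 hC)
  have := Subgroup.card_dvd_of_le hle
  rwa [c3] at this

end Cfsg.Agent.J4Model
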