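import Cfsg.Agent.Lib.J4Pres.Model.Order
import Cfsg.Agent.Lib.J4Pres.Bound.TransMain
import Cfsg.Agent.Lib.J4Cent.Simple

/-!
The presented fourth Janko group: finite, of the expected order, faithful in the model, simple.
-/

set_option autoImplicit false
set_option maxRecDepth 100000

namespace Cfsg.Agent.J4Model

open Cfsg Cfsg.Agent.J4Bound

theorem hBound : HBound := Rels.card_H R4

instance finite_sporJ4 : Finite Spor.J4 := finite_J4 hBound

theorem card_sporJ4 : Nat.card Spor.J4 = 86775571046077562880 := card_J4 hBound

theorem rho_inj : Function.Injective rho := rho_injective hBound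

theorem index_H_eq : R4.H.index = 173067389 := index_eq hBound

theorem isJ4 : IsJ4 Spor.J4 := J4Cent.isJ4_of_card card_sporJ4 rho_inj

end Cfsg.Agent.J4Model
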