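import Cfsg.Agent.Lib.J4Pres.Model.Prod

/-! Conjugation of the translations. -/

set_option autoImplicit false
set_option maxRecDepth 100000
set_option maxHeartbeats 0

namespace Cfsg.Agent.J4Model

theorem u_conj_x :
    (List.range 11).all (fun i =>
      prodEq [letterRows 0, (Data.uMats.getD i []), letterRows 0] (selMats Data.uMats (Data.imgX.getD i 0))) = true := by decide +kernel

theorem u_conj_y :
    (List.range 11).all (fun i =>
      prodEq [letterRows 2, (Data.uMats.getD i []), letterRows 1] (selMats Data.uMats (Data.imgY.getD i 0))) = true := by decide +kernel

end Cfsg.Agent.J4Model
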