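import Cfsg.Agent.Lib.J4Pres.Model.Prod

/-! The group of order 1331. -/

set_option autoImplicit false
set_option maxRecDepth 100000
set_option maxHeartbeats 0

namespace Cfsg.Agent.J4Model

theorem eleven_letters :
    (Data.wK ++ Data.wC).all (fun k => Nat.blt k 4) = true := by decide +kernel

theorem k_mat :
    isMat Data.wK Data.kMat = true := by decide +kernel

theorem a_mat :
    okRows Data.aMat && prodEq [Data.aMat] [Data.cMat, Data.kMat, Data.ciMat] = true := by decide +kernel

theorem k_pow :
    prodEq (List.replicate 11 Data.kMat) [] = true := by decide +kernel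

theorem k_ne :
    Nat.beq (app 1 Data.kMat) 1 = false := by decide +kernel

theorem ka_comm :
    prodEq [Data.kMat, Data.aMat] [Data.aMat, Data.kMat] = true := by decide +kernel

theorem a_not_pow :
    (List.range 11).all (fun i => !prodEq [Data.aMat] (List.replicate i Data.kMat)) = true := by decide +kernel

theorem c_conj_a :
    prodEq [Data.cMat, Data.aMat, Data.ciMat]
      (List.replicate 10 Data.kMat ++ [Data.aMat, Data.aMat]) = true := by decide +kernel

theorem c_ne_comm :
    prodEq [Data.cMat, Data.kMat] [Data.kMat, Data.cMat] = false := by decide +kernel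

theorem c_pow :
    prodEq (List.replicate 11 Data.cMat) [] = true := by decide +kernel

theorem c_inv :
    prodEq [Data.cMat, Data.ciMat] [] = true := by decide +kernel

end Cfsg.Agent.J4Model
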