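import Cfsg.Agent.Lib.J4Pres.Model.LowerWords

/-! Elements of orders 29, 31, 37 and 43. -/

set_option autoImplicit false
set_option maxRecDepth 100000
set_option maxHeartbeats 0

namespace Cfsg.Agent.J4Model

theorem pow_29 :
    sameMat (rep 29 Data.w29) [] = true := by decide +kernel

theorem ne_29 :
    Nat.beq (appWord 1 Data.w29) (appWord 1 []) = false := by decide +kernel

theorem pow_31 :
    sameMat (rep 31 Data.w31) [] = true := by decide +kernel

theorem ne_31 :
    Nat.beq (appWord 1 Data.w31) (appWord 1 []) = false := by decide +kernel

theorem pow_37 :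
    sameMat (rep 37 Data.w37) [] = true := by decide +kernel

theorem ne_37 :
    Nat.beq (appWord 1 Data.w37) (appWord 1 []) = false := by decide +kernel

theorem pow_43 :
    sameMat (rep 43 Data.w43) [] = true := by decide +kernel

theorem ne_43 :
    Nat.beq (appWord 1 Data.w43) (appWord 1 []) = false := by decide +kernel

end Cfsg.Agent.J4Model
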