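import Cfsg.Agent.Lib.J4Pres.Model.Prod

/-! The element of order 11 outside the abelian group, as a word. -/

set_option autoImplicit false
set_option maxRecDepth 100000
set_option maxHeartbeats 0

namespace Cfsg.Agent.J4Model

theorem c_mat :
    isMat Data.wC Data.cMat && okRows Data.ciMat = true := by decide +kernel

end Cfsg.Agent.J4Model
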