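import Cfsg.Agent.Lib.J4Pres.Model.Prod

/-! The translations in the model. -/

set_option autoImplicit false
set_option maxRecDepth 100000
set_option maxHeartbeats 0

namespace Cfsg.Agent.J4Model

theorem u_mat :
    (List.range 11).all (fun i => isMat (uWords.getD i []) (Data.uMats.getD i [])) = true := by decide +kernel

theorem u_sq :
    (List.range 11).all (fun i => prodEq [(Data.uMats.getD i []), (Data.uMats.getD i [])] []) = true := by decide +kernel

theorem u_comm :
    (List.range 11).all (fun i => (List.range i).all fun j =>
      prodEq [(Data.uMats.getD i []), (Data.uMats.getD j [])] [(Data.uMats.getD j []), (Data.uMats.getD i [])]) = true := by decide +kernel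

theorem u_indep :
    (List.range 11).all (fun i => (List.range i).all (fun j =>
      Nat.beq (app (Data.indepVecs.getD i 0) (Data.uMats.getD j [])) (Data.indepVecs.getD i 0)) &&
      !Nat.beq (app (Data.indepVecs.getD i 0) (Data.uMats.getD i [])) (Data.indepVecs.getD i 0) &&
      Nat.blt (Data.indepVecs.getD i 0) (2 ^ 112)) = true := by decide +kernel

end Cfsg.Agent.J4Model
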