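import Cfsg.Agent.Lib.J4Pres.Model.LowerWords

/-! The fixed vector, the orbit spanning the space, and the conjugate of the translation. -/

set_option autoImplicit false
set_option maxRecDepth 100000
set_option maxHeartbeats 0

namespace Cfsg.Agent.J4Model

theorem fixed_ok :
    [[0], [1], wV].all (fun w => Nat.beq (appWord Data.fixedVec w) Data.fixedVec) = true := by decide +kernel

theorem fixed_lt :
    Nat.blt Data.fixedVec (2 ^ 112) = true := by decide +kernel

theorem left_ok :
    (List.range 112).all (fun r =>
      let e := app (appWord (2 ^ r) [0] ^^^ 2 ^ r) Data.leftX ^^^ app (appWord (2 ^ r) [1] ^^^ 2 ^ r) Data.leftY ^^^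
        app (appWord (2 ^ r) wV ^^^ 2 ^ r) Data.leftV
      Nat.beq e (2 ^ r) || Nat.beq e (2 ^ r ^^^ Data.fixedVec)) = true := by decide +kernel

theorem left_small :
    [Data.leftX, Data.leftY, Data.leftV].all (fun L => Nat.beq L.length 112 && L.all fun r => Nat.blt r (2 ^ 112)) = true := by decide +kernel

theorem span_ok :
    (List.range 112).all (fun r => Nat.beq (app (Data.span.getD r 0) spanVecs) (2 ^ r)) = true := by decide +kernel

theorem span_len :
    Nat.beq spanVecs.length 112 = true := by decide +kernel

theorem tree_ok :
    (List.range Data.tree.length).all (fun i => Nat.ble (Data.tree.getD i (0, 0)).1 i && Nat.blt (Data.tree.getD i (0, 0)).2 4) = true := by decide +kernel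

theorem kill_letters :
    (Data.killG ++ Data.killM).all (fun k => Nat.blt k 4) && Data.killM.all (fun k => Nat.blt k 3) = true := by decide +kernel

theorem kill_eq :
    sameMat (conjW Data.killG wV) (uProd Data.killMask ++ Data.killM) = true := by decide +kernel

theorem kill_ne :
    Nat.beq (appWord 1 Data.killM) (appWord 1 []) = false := by decide +kernel

theorem x_ne :
    Nat.beq (appWord 1 [0]) (appWord 1 []) = false := by decide +kernel

end Cfsg.Agent.J4Model
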