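import Cfsg.Agent.Lib.J4Pres.Model.Eleven
import Cfsg.Agent.Lib.J4Pres.Model.LowerTrans
import Cfsg.Agent.Lib.J4Pres.Model.LowerConj
import Cfsg.Agent.Lib.J4Pres.Model.LowerOrders
import Cfsg.Agent.Lib.J4Pres.Model.LowerEleven
import Cfsg.Agent.Lib.J4Pres.Model.LowerPowC
import Cfsg.Agent.Lib.J4Pres.Model.LowerVec

/-!
Subgroups of the matrix group of the model: the eleven translations generate an elementary abelian group of
order `2 ^ 11`; the image of the presented group has elements of orders 29, 31, 37, 43 and a subgroup of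
order 1331.
-/

set_option autoImplicit false
set_option maxRecDepth 100000

namespace Cfsg.Agent.J4Model

/-- The matrix group. -/
abbrev GM : Type := GL (Fin 112) (ZMod 2)

theorem all_range {n : ℕ} {f : ℕ → Bool} (h : (List.range n).all f = true) {i : ℕ} (hi : i < n) :
    f i = true := List.all_eq_true.1 h i (List.mem_range.2 hi)

/-- A translation. -/
def gu (i : ℕ) : GM := glWord (uWords.getD i [])

/-- The translations. -/
def uList : List GM := uWords.map glWord

theorem uWords_length : uWords.length = 11 := by decide +kernel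

theorem uMats_length : Data.uMats.length = 11 := by decide +kernel

theorem uList_length : uList.length = 11 := by rw [uList, List.length_map, uWords_length]

theorem mem_uList {g : GM} : g ∈ uList ↔ ∃ i < 11, gu i = g := by
  constructor
  · intro h
    obtain ⟨i, hi, rfl⟩ := List.mem_iff_getElem.1 h
    have hi' : i < uWords.length := by simpa [uList] using hi
    exact ⟨i, by rwa [uWords_length] at hi', by
      rw [gu, List.getD_eq_getElem _ _ hi']; simp [uList]⟩
  · rintro ⟨i, hi, rfl⟩
    have hi' : i < uWords.length := by rw [uWords_length]; exact hi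
    exact List.mem_map.2 ⟨uWords[i], List.getElem_mem hi', by rw [gu, List.getD_eq_getElem _ _ hi']⟩

theorem code_u {i : ℕ} (hi : i < 11) :
    Code (Data.uMats.getD i []) (gu i) ∧ small 112 (Data.uMats.getD i []) :=
  (code_small (all_range u_mat hi)).symm

theorem code_let (k : ℕ) : Code (letterRows k) (glLetter k) ∧ small 112 (letterRows k) :=
  ⟨code_letter k, small_letters k⟩

/-- A matrix with its element. -/
def OkP (M : List ℕ) (g : GM) : Prop := Code M g ∧ small 112 M

theorem ok1 {M : List ℕ} {g : GM} (h : OkP M g) :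
    ∀ p ∈ [(M, g)], Code p.1 p.2 ∧ small 112 p.1 := by
  intro p hp; rw [List.mem_singleton.1 hp]; exact h

theorem ok2 {M N : List ℕ} {g k : GM} (h : OkP M g) (h' : OkP N k) :
    ∀ p ∈ [(M, g), (N, k)], Code p.1 p.2 ∧ small 112 p.1 := by
  intro p hp
  rcases List.mem_cons.1 hp with rfl | hp
  exacts [h, ok1 h' p hp]

theorem ok3 {M N P : List ℕ} {g k l : GM} (h : OkP M g) (h' : OkP N k) (h'' : OkP P l) :
    ∀ p ∈ [(M, g), (N, k), (P, l)], Code p.1 p.2 ∧ small 112 p.1 := by
  intro p hp
  rcases List.mem_cons.1 hp with rfl | hp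
  exacts [h, ok2 h' h'' p hp]

theorem okRep {M : List ℕ} {g : GM} (h : OkP M g) (n : ℕ) :
    ∀ p ∈ List.replicate n (M, g), Code p.1 p.2 ∧ small 112 p.1 := by
  intro p hp; rw [List.eq_of_mem_replicate hp]; exact h

theorem pow_of_prodEq {M : List ℕ} {g : GM} (h : OkP M g) {n : ℕ}
    (he : prodEq (List.replicate n M) [] = true) : g ^ n = 1 := by
  have := prodEq_spec (Ps := List.replicate n (M, g)) (Qs := []) (okRep h n) (by simp)
    (by rw [List.map_replicate]; exact he)
  rwa [List.map_replicate, List.prod_replicate] at this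

theorem gu_sq {i : ℕ} (hi : i < 11) : gu i * gu i = 1 := by
  simpa using prodEq_spec (Ps := [(_, gu i), (_, gu i)]) (Qs := []) (ok2 (code_u hi) (code_u hi)) (by simp)
    (all_range u_sq hi)

theorem gu_comm {i j : ℕ} (hi : i < 11) (hj : j < 11) : gu i * gu j = gu j * gu i := by
  have main : ∀ {i j : ℕ}, i < 11 → j < i → gu i * gu j = gu j * gu i := fun {i j} hi hji => by
    simpa using prodEq_spec (Ps := [(_, gu i), (_, gu j)]) (Qs := [(_, gu j), (_, gu i)])
      (ok2 (code_u hi) (code_u (hji.trans hi))) (ok2 (code_u (hji.trans hi)) (code_u hi))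
      (all_range (all_range u_comm hi) hji)
  rcases lt_trichotomy i j with h | rfl | h
  · exact (main hj h).symm
  · rfl
  · exact main hi h

theorem uList_sq : ∀ u ∈ uList, u * u = 1 := fun u hu => by
  obtain ⟨i, hi, rfl⟩ := mem_uList.1 hu; exact gu_sq hi

theorem uList_comm : ∀ u ∈ uList, ∀ w ∈ uList, u * w = w * u := fun u hu w hw => by
  obtain ⟨i, hi, rfl⟩ := mem_uList.1 hu
  obtain ⟨j, hj, rfl⟩ := mem_uList.1 hw
  exact gu_comm hi hj

/-- The translation group. -/
def UG : Subgroup GM := Subgroup.closure {u | u ∈ uList}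

/-- The subgroup generated by the first translations. -/
def UStep (n : ℕ) : Subgroup GM := Subgroup.closure {u | ∃ i < n, gu i = u}

theorem UStep_eleven : UStep 11 = UG := by
  rw [UStep, UG]; congr 1; ext u; exact mem_uList.symm

theorem gu_not_mem {n : ℕ} (hn : n < 11) : gu n ∉ UStep n := by
  intro h
  have hc := all_range u_indep hn
  simp only [Bool.and_eq_true, List.all_eq_true, List.mem_range, Nat.beq_eq, Bool.not_eq_true',
    Nat.blt_eq] at hc
  obtain ⟨⟨hfix, hmove⟩, hq⟩ := hc
  set q := Data.indepVecs.getD n 0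
  let S : Subgroup GM :=
    { carrier := {g | Matrix.vecMul (toVec 112 q) (g : Matrix (Fin 112) (Fin 112) (ZMod 2)) = toVec 112 q}
      one_mem' := by simp
      mul_mem' := fun {a b} ha hb => by
        simp only [Set.mem_ofPred_eq] at ha hb ⊢
        rw [Units.val_mul, ← Matrix.vecMul_vecMul, ha, hb]
      inv_mem' := fun {a} ha => by
        simp only [Set.mem_ofPred_eq] at ha ⊢
        conv_lhs => rw [← ha]
        rw [Matrix.vecMul_vecMul, ← Units.val_mul, mul_inv_cancel, Units.val_one, Matrix.vecMul_one] }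
  have hle : UStep n ≤ S := by
    refine (Subgroup.closure_le _).2 ?_
    rintro u ⟨i, hi, rfl⟩
    show Matrix.vecMul _ _ = _
    rw [(code_u (hi.trans hn)).1.vecMul, hfix i hi]
  have h1 : Matrix.vecMul (toVec 112 q) (gu n : Matrix (Fin 112) (Fin 112) (ZMod 2)) = toVec 112 q :=
    hle h
  rw [(code_u hn).1.vecMul] at h1
  have hlt : app q (Data.uMats.getD n []) < 2 ^ 112 := app_lt (code_u hn).2 _
  have : app q (Data.uMats.getD n []) = q := by
    refine Nat.eq_of_testBit_eq fun j => ?_
    by_cases hj : j < 112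
    · have := congrFun h1 ⟨j, hj⟩
      simp only [toVec] at this
      revert this
      cases (app q (Data.uMats.getD n [])).testBit j <;> cases q.testBit j <;> simp
    · rw [Nat.testBit_eq_false_of_lt (hlt.trans_le (Nat.pow_le_pow_right (by omega) (by omega))),
        Nat.testBit_eq_false_of_lt (hq.trans_le (Nat.pow_le_pow_right (by omega) (by omega)))]
  rw [this] at hmove
  simp at hmove

theorem card_UStep : ∀ n ≤ 11, Nat.card (UStep n) = 2 ^ n
  | 0, _ => by
    have : UStep 0 = ⊥ := by simp [UStep]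
    rw [this]; simp
  | n + 1, hn => by
    have e : UStep (n + 1) = UStep n ⊔ Subgroup.zpowers (gu n) := by
      refine le_antisymm ((Subgroup.closure_le _).2 ?_) (sup_le ?_ ?_)
      · rintro u ⟨i, hi, rfl⟩
        rcases Nat.lt_succ_iff_lt_or_eq.1 hi with h | rfl
        · exact Subgroup.mem_sup_left (Subgroup.subset_closure ⟨i, h, rfl⟩)
        · exact Subgroup.mem_sup_right (Subgroup.mem_zpowers _)
      · exact Subgroup.closure_mono fun u ⟨i, hi, h⟩ => ⟨i, Nat.lt_succ_of_lt hi, h⟩
      · exact Subgroup.zpowers_le.2 (Subgroup.subset_closure ⟨n, Nat.lt_succ_self n, rfl⟩)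
    rw [e, card_sup_zpowers Nat.prime_two (by rw [pow_two]; exact gu_sq (by omega)) ?_
      (gu_not_mem (by omega)), card_UStep n (by omega), pow_succ]
    intro a ha
    have hc : a ∈ Subgroup.centralizer {gu n} := by
      refine (Subgroup.closure_le _).2 ?_ ha
      rintro u ⟨i, hi, rfl⟩
      exact Subgroup.mem_centralizer_singleton_iff.2 (gu_comm (by omega) (by omega))
    rw [← Subgroup.mem_centralizer_singleton_iff.1 hc, mul_inv_cancel_right]
    exact ha

theorem card_UG : Nat.card UG = 2 ^ 11 := by rw [← UStep_eleven]; exact card_UStep 11 le_rfl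

theorem glWord_selProd : ∀ (ws : List (List ℕ)) (e : ℕ),
    glWord (selProd ws e) = selEl (ws.map glWord) e
  | [], _ => rfl
  | w :: ws, e => by
    rw [selProd, glWord_append, glWord_selProd ws, List.map_cons, selEl]
    cases Nat.beq (e % 2) 1 <;> simp [glWord]

theorem selMats_spec : ∀ (Ms : List (List ℕ)) (gs : List GM) (e : ℕ), Ms.length = gs.length →
    (∀ i < Ms.length, Code (Ms.getD i []) (gs.getD i 1) ∧ small 112 (Ms.getD i [])) →
    ∃ Ps : List (List ℕ × GM), Ps.map Prod.fst = selMats Ms e ∧
      (∀ p ∈ Ps, Code p.1 p.2 ∧ small 112 p.1) ∧ (Ps.map Prod.snd).prod = selEl gs e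
  | [], [], _, _, _ => ⟨[], rfl, by simp, rfl⟩
  | [], _ :: _, _, h, _ => by simp at h
  | _ :: _, [], _, h, _ => by simp at h
  | M :: Ms, g :: gs, e, hl, h => by
    obtain ⟨Ps, h1, h2, h3⟩ := selMats_spec Ms gs (e / 2) (by simpa using hl)
      (fun i hi => by simpa using h (i + 1) (by simp; omega))
    have h0 : Code M g ∧ small 112 M := by simpa using h 0 (by simp)
    rcases hb : Nat.beq (e % 2) 1 with _ | _
    · exact ⟨Ps, by simp [selMats, hb, h1], h2, by simp [selEl, hb, h3]⟩
    · exact ⟨(M, g) :: Ps, by simp [selMats, hb, h1], List.forall_mem_cons.2 ⟨h0, h2⟩,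
        by simp [selEl, hb, h3]⟩

theorem sel_pairs (e : ℕ) : ∃ Ps : List (List ℕ × GM), Ps.map Prod.fst = selMats Data.uMats e ∧
    (∀ p ∈ Ps, Code p.1 p.2 ∧ small 112 p.1) ∧ (Ps.map Prod.snd).prod = selEl uList e := by
  refine selMats_spec _ _ e (by rw [uMats_length, uList_length]) fun i hi => ?_
  rw [uMats_length] at hi
  have hi' : i < uWords.length := by rw [uWords_length]; exact hi
  have : uList.getD i 1 = gu i := by simp [uList, gu, List.getD_eq_getElem?_getD, hi']
  rw [this]; exact code_u hi

theorem conj_x {i : ℕ} (hi : i < 11) :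
    glX * gu i * glX = selEl uList (Data.imgX.getD i 0) := by
  obtain ⟨Ps, h1, h2, h3⟩ := sel_pairs (Data.imgX.getD i 0)
  rw [← h3]
  have := prodEq_spec (Ps := [(_, glLetter 0), (_, gu i), (_, glLetter 0)]) (Qs := Ps)
    (ok3 (code_let 0) (code_u hi) (code_let 0)) h2 (by rw [h1]; exact all_range u_conj_x hi)
  simpa [glLetter, mul_assoc] using this

theorem conj_y {i : ℕ} (hi : i < 11) :
    glY⁻¹ * gu i * glY = selEl uList (Data.imgY.getD i 0) := by
  obtain ⟨Ps, h1, h2, h3⟩ := sel_pairs (Data.imgY.getD i 0)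
  rw [← h3]
  have := prodEq_spec (Ps := [(_, glLetter 2), (_, gu i), (_, glLetter 1)]) (Qs := Ps)
    (ok3 (code_let 2) (code_u hi) (code_let 1)) h2 (by rw [h1]; exact all_range u_conj_y hi)
  simpa [glLetter, mul_assoc] using this

theorem selEl_mem_UG (e : ℕ) : selEl uList e ∈ UG :=
  selEl_mem (fun _ hu => Subgroup.subset_closure hu) e

theorem conjWord_eq {i : ℕ} (hi : i < 11) :
    ∃ g, gu i = (glWord g)⁻¹ * glWord wV * glWord g ∧ ∀ k ∈ g, k < 2 := by
  have hlen : i < Data.conjWords.length := by
    rw [← List.length_map (f := fun g => conjW g wV)]; exact uWords_length.symm ▸ hi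
  have hlet : Data.conjWords.all (fun g => g.all fun k => Nat.blt k 2) = true := by decide +kernel
  simp only [List.all_eq_true, Nat.blt_eq] at hlet
  refine ⟨Data.conjWords[i], ?_, hlet _ (List.getElem_mem hlen)⟩
  have e : uWords.getD i [] = conjW Data.conjWords[i] wV := by
    simp [uWords, List.getD_eq_getElem?_getD, hlen]
  rw [gu, e, conjW, glWord_append, glWord_append,
    glWord_winv fun k hk => (hlet _ (List.getElem_mem hlen) k hk).trans (by norm_num)]

theorem gu_zero : gu 0 = glWord wV := by
  have h : uWords.getD 0 [] = wV := by decide +kernel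
  rw [gu, h]

/-- The image of the presented group. -/
theorem glWord_mem_range : ∀ w : List ℕ, glWord w ∈ rho.range := by
  intro w
  have hk : ∀ k, glLetter k ∈ rho.range := by
    intro k
    have hx : glX ∈ rho.range := ⟨PresentedGroup.of Cfsg.Spor.J4.Gen.x, PresentedGroup.toGroup.of _⟩
    have hy : glY ∈ rho.range := ⟨PresentedGroup.of Cfsg.Spor.J4.Gen.y, PresentedGroup.toGroup.of _⟩
    have ht : glT ∈ rho.range := ⟨PresentedGroup.of Cfsg.Spor.J4.Gen.t, PresentedGroup.toGroup.of _⟩
    unfold glLetter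
    split_ifs
    exacts [hx, hy, inv_mem hy, ht]
  exact Subgroup.list_prod_mem _ fun g hg => by
    obtain ⟨k, -, rfl⟩ := List.mem_map.1 hg; exact hk k

theorem dvd_of_prime_order {p : ℕ} (hp : p.Prime) {w : List ℕ} (h1 : sameMat (rep p w) [] = true)
    (h2 : Nat.beq (appWord 1 w) (appWord 1 []) = false) : p ∣ Nat.card rho.range := by
  haveI := Fact.mk hp
  have hpow : glWord w ^ p = 1 := by rw [← glWord_rep, glWord_eq_of_pk h1]; rfl
  have hne : glWord w ≠ 1 := glWord_ne_of_app (w := []) (v := 1) (Nat.one_lt_two_pow (by norm_num)) h2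
  rw [← orderOf_eq_prime hpow hne]
  exact Subgroup.orderOf_dvd_natCard _ (glWord_mem_range w)

theorem code_inj {R R' : List ℕ} {g : GM} (hs : small 112 R) (hs' : small 112 R') (h : Code R g)
    (h' : Code R' g) : R = R' := by
  have hm : toMat 112 R = toMat 112 R' := h.2.symm.trans h'.2
  refine List.ext_getElem (by rw [h.1, h'.1]) fun i hi hi' => Nat.eq_of_testBit_eq fun j => ?_
  by_cases hj : j < 112
  · have hi1 : i < 112 := h.1 ▸ hi
    have := congrFun (congrFun hm ⟨i, hi1⟩) ⟨j, hj⟩
    simp only [toMat, toVec, List.getD_eq_getElem _ _ hi, List.getD_eq_getElem _ _ hi'] at this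
    revert this
    cases R[i].testBit j <;> cases R'[i].testBit j <;> simp
  · rw [Nat.testBit_eq_false_of_lt ((hs _ (List.getElem_mem hi)).trans_le
        (Nat.pow_le_pow_right (by omega) (by omega))),
      Nat.testBit_eq_false_of_lt ((hs' _ (List.getElem_mem hi')).trans_le
        (Nat.pow_le_pow_right (by omega) (by omega)))]

theorem prodEq_ne {Ps Qs : List (List ℕ × GM)} (hP : ∀ p ∈ Ps, Code p.1 p.2 ∧ small 112 p.1)
    (hQ : ∀ p ∈ Qs, Code p.1 p.2 ∧ small 112 p.1)
    (h : prodEq (Ps.map Prod.fst) (Qs.map Prod.fst) = false) :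
    (Ps.map Prod.snd).prod ≠ (Qs.map Prod.snd).prod := by
  intro e
  obtain ⟨R, h1, h2, h3⟩ := pkProd_spec Ps units 1 (code_one 112) units_small hP
  obtain ⟨R', h1', h2', h3'⟩ := pkProd_spec Qs units 1 (code_one 112) units_small hQ
  rw [e] at h3
  rw [prodEq, pkOne, h1, h1', code_inj h2 h2' h3 h3'] at h
  simp at h

theorem ok_ci : OkP Data.ciMat (glWord Data.wC)⁻¹ := by
  have hcm := c_mat
  simp only [Bool.and_eq_true, decide_eq_true_eq] at hcm
  have cC : OkP Data.cMat (glWord Data.wC) := (code_small hcm.1).symm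
  obtain ⟨cil, cis⟩ := okRows_spec hcm.2
  obtain ⟨Rr, h1, h2, h3⟩ := pkProd_spec [(Data.cMat, glWord Data.wC)] units 1 (code_one 112) units_small
    (ok1 cC)
  refine ⟨⟨cil, ?_⟩, cis⟩
  have e := Nat.eq_of_beq_eq_true c_inv
  have hs : small 112 (J4Model.mul Rr Data.ciMat) := fun r hr => by
    obtain ⟨a, -, rfl⟩ := List.mem_map.1 hr; exact app_lt cis _
  have happ : pkApp (lanes 112 112) (pk 112 Rr) Data.ciMat 0 = pk 112 (J4Model.mul Rr Data.ciMat) := by
    have := pkApp_spec Data.ciMat 0 Rr h2 cis (by omega)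
    rw [h3.1] at this
    simpa [J4Model.mul, Nat.shiftRight_zero] using this
  have e' : pk 112 (J4Model.mul Rr Data.ciMat) = pk 112 units := by rw [← happ, ← h1]; exact e
  have hmul := pk_inj hs units_small (by rw [length_mul, h3.1, units_length]) e'
  have h4 := h3.2
  simp only [List.map_cons, List.map_nil, List.prod_cons, List.prod_nil, mul_one, one_mul] at h4
  generalize glWord Data.wC = g at h4 ⊢
  have hv : (g : Matrix (Fin 112) (Fin 112) (ZMod 2)) * toMat 112 Data.ciMat = 1 := by
    rw [h4, ← toMat_mul h3.1 cil, hmul]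
    exact toMat_one 112
  calc (↑g⁻¹ : Matrix (Fin 112) (Fin 112) (ZMod 2))
      = ↑g⁻¹ * ((g : Matrix (Fin 112) (Fin 112) (ZMod 2)) * toMat 112 Data.ciMat) := by
        rw [hv, mul_one]
    _ = toMat 112 Data.ciMat := by
        rw [← mul_assoc, ← Units.val_mul, inv_mul_cancel, Units.val_one, one_mul]

theorem ok_a : OkP Data.aMat (glWord Data.wC * glWord Data.wK * (glWord Data.wC)⁻¹) := by
  have hcm := c_mat
  simp only [Bool.and_eq_true, decide_eq_true_eq] at hcm
  have ha := a_mat
  simp only [Bool.and_eq_true, decide_eq_true_eq] at ha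
  obtain ⟨al, as'⟩ := okRows_spec ha.1
  refine ⟨?_, as'⟩
  obtain ⟨R, h1, h2, h3⟩ := pkProd_spec [(Data.cMat, glWord Data.wC), (Data.kMat, glWord Data.wK),
    (Data.ciMat, (glWord Data.wC)⁻¹)] units 1 (code_one 112) units_small
    (ok3 (code_small hcm.1).symm (code_small k_mat).symm ok_ci)
  have e := Nat.eq_of_beq_eq_true ha.2
  have hs : small 112 (J4Model.mul units Data.aMat) := fun r hr => by
    obtain ⟨a, -, rfl⟩ := List.mem_map.1 hr; exact app_lt as' _
  have happ : pkApp (lanes 112 112) (pk 112 units) Data.aMat 0 = pk 112 (J4Model.mul units Data.aMat) := by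
    have := pkApp_spec Data.aMat 0 units units_small as' (by omega)
    rw [units_length] at this
    simpa [J4Model.mul, Nat.shiftRight_zero] using this
  have e' : pk 112 (J4Model.mul units Data.aMat) = pk 112 R := by rw [← happ, ← h1]; exact e
  have hmul := pk_inj hs h2 (by rw [length_mul, units_length, h3.1]) e'
  refine ⟨al, ?_⟩
  have h4 := h3.2
  rw [← hmul, toMat_mul units_length al, show units = one 112 from rfl, toMat_one, one_mul] at h4
  simpa [mul_assoc] using h4

theorem dvd_1331 : 1331 ∣ Nat.card rho.range := by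
  have hcm := c_mat
  simp only [Bool.and_eq_true, decide_eq_true_eq] at hcm
  have cC : OkP Data.cMat (glWord Data.wC) := (code_small hcm.1).symm
  have cK : OkP Data.kMat (glWord Data.wK) := (code_small k_mat).symm
  have hr1 := glWord_mem_range Data.wK
  have hr2 := glWord_mem_range Data.wC
  refine dvd_1331_of rho.range hr1 hr2 rfl (pow_of_prodEq cK k_pow) (pow_of_prodEq cC c_pow) ?_ ?_ ?_ ?_ ?_
  · intro e
    have h0 := cK.1.vecMul 1
    rw [e, Units.val_one, Matrix.vecMul_one] at h0
    have hk := k_ne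
    generalize hKM : Data.kMat = M at h0 hk cK
    have : app 1 M = 1 := by
      refine Nat.eq_of_testBit_eq fun j => ?_
      by_cases hj : j < 112
      · have := congrFun h0 ⟨j, hj⟩
        simp only [toVec] at this
        revert this
        cases (app 1 M).testBit j <;> cases (1 : ℕ).testBit j <;> simp
      · rw [Nat.testBit_eq_false_of_lt ((app_lt cK.2 1).trans_le
            (Nat.pow_le_pow_right (by omega) (by omega))),
          Nat.testBit_eq_false_of_lt ((Nat.one_lt_two_pow (by omega : (112 : ℕ) ≠ 0)).trans_le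
            (Nat.pow_le_pow_right (by omega) (by omega)))]
    rw [this] at hk
    simp at hk
  · simpa using prodEq_spec (Ps := [(_, _), (_, _)]) (Qs := [(_, _), (_, _)]) (ok2 cK ok_a) (ok2 ok_a cK)
      ka_comm
  · intro n hn
    have hq := all_range a_not_pow hn
    simp only [Bool.not_eq_true'] at hq
    have := prodEq_ne (Ps := [(_, _)]) (Qs := List.replicate n (_, _)) (ok1 ok_a) (okRep cK n)
      (by rw [List.map_replicate]; exact hq)
    simpa [List.map_replicate] using this
  · have := prodEq_spec (Ps := [(_, _), (_, _), (_, _)])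
      (Qs := List.replicate 10 (Data.kMat, glWord Data.wK) ++ [(_, _), (_, _)]) (ok3 cC ok_a ok_ci)
      (fun p hp => (List.mem_append.1 hp).elim (okRep cK 10 p) (ok2 ok_a ok_a p)) (by
        rw [List.map_append, List.map_replicate]; exact c_conj_a)
    rw [List.map_append, List.prod_append, List.map_replicate, List.prod_replicate] at this
    simp only [List.map_cons, List.map_nil, List.prod_cons, List.prod_nil, mul_one] at this
    simpa [mul_assoc] using this
  · have := prodEq_ne (Ps := [(_, _), (_, _)]) (Qs := [(_, _), (_, _)]) (ok2 cC cK) (ok2 cK cC)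
      c_ne_comm
    simpa using this

end Cfsg.Agent.J4Model
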