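import Cfsg.Agent.Lib.J4Pres.Model.Prod

/-! Commuting involutions of the Mathieu group with a single common fixed translation. -/

set_option autoImplicit false
set_option maxRecDepth 100000
set_option maxHeartbeats 0

namespace Cfsg.Agent.J4Model

theorem chain_letters :
    Data.chainWords.all (fun w => w.all fun k => Nat.blt k 3) = true := by decide +kernel

theorem chain_mat :
    (List.range 6).all (fun j => isMat (Data.chainWords.getD j []) (Data.chainMats.getD j [])) = true := by decide +kernel

theorem chain_sq :
    (List.range 6).all (fun j => prodEq [(Data.chainMats.getD j []), (Data.chainMats.getD j [])] [] &&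
      (List.range j).all fun i => prodEq [(Data.chainMats.getD i []), (Data.chainMats.getD j [])] [(Data.chainMats.getD j []), (Data.chainMats.getD i [])]) = true := by decide +kernel

theorem chain_conj :
    (List.range 6).all (fun j => (List.range 11).all fun i =>
      prodEq [(Data.chainMats.getD j []), (Data.uMats.getD i []), (Data.chainMats.getD j [])]
        (selMats Data.uMats ((Data.chainImg.getD j []).getD i 0))) = true := by decide +kernel

theorem chain_fix :
    (List.range 2048).all (fun e => Nat.ble e 1 ||
      !((List.range 6).all fun j => Nat.beq (app e (Data.chainImg.getD j [])) e)) = true := by decide +kernel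

end Cfsg.Agent.J4Model
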