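import Cfsg.Agent.Lib.J4Pres.Model.Packed
import Cfsg.Agent.Lib.J4Pres.Model.LowerData

/-! The words of the translations and of the group of order 1331 in the model of the presented fourth Janko group. -/

set_option autoImplicit false

namespace Cfsg.Agent.J4Model

/-- The word of the translation. -/
def wV : List ℕ := rep 3 ([1] ++ winv Data.wTrans ++ [3] ++ Data.wTrans)

/-- The conjugate of a word. -/
def conjW (g w : List ℕ) : List ℕ := winv g ++ w ++ g

/-- The words of eleven translations. -/
def uWords : List (List ℕ) := Data.conjWords.map fun g => conjW g wV

/-- The product of the words selected by the bits. -/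
def selProd : List (List ℕ) → ℕ → List ℕ
  | [], _ => []
  | w :: ws, e => (bif Nat.beq (e % 2) 1 then w else []) ++ selProd ws (e / 2)

/-- The product of the translations selected by the bits. -/
def uProd (e : ℕ) : List ℕ := selProd uWords e

/-- The second generator of the abelian group of order 121. -/
def wA : List ℕ := Data.wC ++ Data.wK ++ winv Data.wC

/-- Two words have the same matrix. -/
noncomputable def sameMat (u w : List ℕ) : Bool := Nat.beq (pkMat u) (pkMat w)

/-- The vectors of the spanning tree. -/
def treeVecs : List (ℕ × ℕ) → List ℕ → List ℕ
  | [], acc => acc
  | (p, g) :: ds, acc => treeVecs ds (acc ++ [app (acc.getD p 0) (letterRows g)])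

/-- The orbit vectors spanning the space. -/
def spanVecs : List ℕ := treeVecs Data.tree [Data.fixedVec]

end Cfsg.Agent.J4Model
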