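import Mathlib.Data.Nat.Bitwise
import Mathlib.Data.ZMod.Basic
import Mathlib.LinearAlgebra.Matrix.GeneralLinearGroup.Defs
import Mathlib.Tactic

/-!
Square matrices over two elements coded by their rows.
-/

set_option autoImplicit false

namespace Cfsg.Agent.J4Model

/-- The image of a coded row vector. -/
def app : ℕ → List ℕ → ℕ
  | _, [] => 0
  | v, r :: rs => (bif Nat.beq (v % 2) 1 then r else 0) ^^^ app (v / 2) rs

/-- The product of coded matrices. -/
def mul (A B : List ℕ) : List ℕ := A.map fun r => app r B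

/-- The identity of size `n`. -/
def one (n : ℕ) : List ℕ := (List.range n).map fun i => 2 ^ i

/-- The vector of a code. -/
def toVec (n : ℕ) (v : ℕ) : Fin n → ZMod 2 := fun j => if v.testBit j then 1 else 0

/-- The matrix of a code. -/
def toMat (n : ℕ) (A : List ℕ) : Matrix (Fin n) (Fin n) (ZMod 2) := fun i => toVec n (A.getD i 0)

theorem toVec_xor (n a b : ℕ) : toVec n (a ^^^ b) = toVec n a + toVec n b := by
  funext j
  simp only [toVec, Pi.add_apply, Nat.testBit_xor]
  cases a.testBit j <;> cases b.testBit j <;> simp <;> decide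

theorem toVec_zero (n : ℕ) : toVec n 0 = 0 := by
  funext j; simp [toVec]

theorem app_sum (n : ℕ) : ∀ (A : List ℕ) (v : ℕ) (j : Fin n), toVec n (app v A) j =
    ∑ i : Fin A.length, (if v.testBit i then (1 : ZMod 2) else 0) * toVec n (A.getD i 0) j
  | [], v, j => by simp [app, toVec]
  | r :: rs, v, j => by
    rw [app, toVec_xor, Pi.add_apply, app_sum n rs (v / 2) j]
    simp only [List.length_cons, Fin.sum_univ_succ, Fin.val_zero, Fin.val_succ, List.getD_cons_zero,
      List.getD_cons_succ, Nat.testBit_add_one]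
    congr 1
    rcases Nat.mod_two_eq_zero_or_one v with h | h <;> simp [Nat.testBit_zero, h, toVec, Nat.beq]

theorem toVec_app {n : ℕ} {A : List ℕ} (hA : A.length = n) (v : ℕ) :
    toVec n (app v A) = Matrix.vecMul (toVec n v) (toMat n A) := by
  subst hA
  funext j
  rw [app_sum]
  rfl

theorem length_mul (A B : List ℕ) : (mul A B).length = A.length := by simp [mul]

theorem toMat_mul {n : ℕ} {A B : List ℕ} (hA : A.length = n) (hB : B.length = n) :
    toMat n (mul A B) = toMat n A * toMat n B := by
  funext i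
  have hi : (i : ℕ) < A.length := by omega
  show toVec n ((A.map fun r => app r B).getD i 0) = _
  rw [List.getD_eq_getElem _ _ (by simpa using hi), List.getElem_map, toVec_app hB]
  funext j
  simp [Matrix.mul_apply, Matrix.vecMul, dotProduct, toMat, List.getElem?_eq_getElem hi]

theorem toMat_one (n : ℕ) : toMat n (one n) = 1 := by
  funext i j
  have hi : (i : ℕ) < n := i.2
  simp only [toMat, one, toVec, List.getD_eq_getElem?_getD, List.getElem?_map, List.getElem?_range hi,
    Option.map_some, Option.getD_some, Nat.testBit_two_pow, Matrix.one_apply]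
  by_cases h : i = j <;> simp [h]
  intro h'; exact absurd (Fin.ext h') h

/-- The code `A` describes `g`. -/
def Code {n : ℕ} (A : List ℕ) (g : GL (Fin n) (ZMod 2)) : Prop :=
  A.length = n ∧ (g : Matrix (Fin n) (Fin n) (ZMod 2)) = toMat n A

theorem code_one (n : ℕ) : Code (one n) (1 : GL (Fin n) (ZMod 2)) :=
  ⟨by simp [one], by rw [toMat_one]; rfl⟩

theorem Code.mul {n : ℕ} {A B : List ℕ} {g h : GL (Fin n) (ZMod 2)} (hA : Code A g) (hB : Code B h) :
    Code (J4Model.mul A B) (g * h) :=
  ⟨by rw [length_mul, hA.1], by rw [Units.val_mul, toMat_mul hA.1 hB.1, hA.2, hB.2]⟩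

theorem Code.eq {n : ℕ} {A : List ℕ} {g h : GL (Fin n) (ZMod 2)} (hA : Code A g) (hB : Code A h) :
    g = h := Units.ext (hA.2.trans hB.2.symm)

theorem Code.vecMul {n : ℕ} {A : List ℕ} {g : GL (Fin n) (ZMod 2)} (hA : Code A g) (v : ℕ) :
    Matrix.vecMul (toVec n v) (g : Matrix (Fin n) (Fin n) (ZMod 2)) = toVec n (app v A) := by
  rw [hA.2, toVec_app hA.1]

end Cfsg.Agent.J4Model
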