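import Cfsg.Agent.Lib.J4Pres.Model.Order
import Cfsg.Agent.Lib.J4Cent.Simple

/-!
The order of the image of the presented fourth Janko group in the matrix group of degree 112.
-/

set_option autoImplicit false
set_option maxRecDepth 100000

namespace Cfsg.Agent.J4Model

open Cfsg Cfsg.Agent.J4Bound Cfsg.Agent.J4Cent

theorem card_modG : Nat.card ModG = 86775571046077562880 := by
  haveI : Finite GM := inferInstance
  have hx := (congrArg toMod M24Pres.psi_gx).trans toMod_jx
  have hy := (congrArg toMod M24Pres.psi_gy).trans toMod_jy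
  let S : Rels ModG := pushRels R4 toMod
  have hgen := pushRels_gen R4 toMod rho.rangeRestrict_surjective (j4Rels_gen _ _ _)
  have h1 : Nat.card ↥modRep.sH ≤ 501397585920 := card_sH modRep S hx hy toMod_jt
  have h2 : modRep.sH.index ≤ 173067389 :=
    (Nat.le_of_dvd (Nat.pos_of_ne_zero (S.index_H hgen).1)
      (Subgroup.index_dvd_of_le (H_le_sH modRep S hx hy toMod_jt))).trans (S.index_H hgen).2
  have hm := modRep.sH.card_mul_index
  exact le_antisymm (hm ▸ (Nat.mul_le_mul h1 h2).trans (by norm_num)) le_range

theorem isJ4_modG : IsJ4 ModG := by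
  haveI : Finite GM := inferInstance
  exact ⟨isSimple_modG card_modG, card_modG⟩

end Cfsg.Agent.J4Model
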