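import Mathlib.GroupTheory.Index
import Mathlib.Tactic

/-!
Normalisers of generated subgroups in finite groups, products of disjoint subgroups.
-/

set_option autoImplicit false

namespace Cfsg.Agent.J4Model

variable {G : Type*} [Group G]

/-- In a finite group an element conjugating generators of a subgroup into it normalises it. -/
theorem mem_normalizer_of_gens [Finite G] {s : Set G} {a : G}
    (h : ∀ u ∈ s, a⁻¹ * u * a ∈ Subgroup.closure s) :
    a ∈ Subgroup.normalizer (Subgroup.closure s : Set G) := by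
  set A := Subgroup.closure s
  have hle : A ≤ A.comap (MulAut.conj a⁻¹).toMonoidHom := (Subgroup.closure_le _).2 fun u hu => by
    show a⁻¹ * u * a⁻¹⁻¹ ∈ A
    rw [inv_inv]; exact h u hu
  have hb1 : ∀ b ∈ A, a⁻¹ * b * a⁻¹⁻¹ ∈ A := fun b hb => hle hb
  have hi' : a⁻¹ ∈ Subgroup.normalizer (A : Set G) := by
    refine Subgroup.mem_normalizer_iff.2 fun b => ⟨hb1 b, fun hb => ?_⟩
    obtain ⟨n, hn0, hn⟩ := isOfFinOrder_iff_pow_eq_one.1 (isOfFinOrder_of_finite a⁻¹)
    have hit : ∀ m : ℕ, ∀ c ∈ A, (a⁻¹) ^ m * c * ((a⁻¹) ^ m)⁻¹ ∈ A := by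
      intro m
      induction m with
      | zero => intro c hc; simpa using hc
      | succ m ih =>
        intro c hc
        have := hb1 _ (ih c hc)
        convert this using 1
        rw [pow_succ']; group
    have := hit (n - 1) _ hb
    have e : (a⁻¹) ^ (n - 1) * a⁻¹ = 1 := by rw [← pow_succ, Nat.sub_add_cancel hn0, hn]
    convert this using 1
    calc b = ((a⁻¹) ^ (n - 1) * a⁻¹) * b * ((a⁻¹) ^ (n - 1) * a⁻¹)⁻¹ := by rw [e]; group
      _ = _ := by group
  simpa using inv_mem hi'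

/-- A group injected by a homomorphism, meeting a subgroup trivially, spans with it a set of the product size. -/
theorem card_mul_le [Finite G] {M : Type*} [Group M] {A K : Subgroup G} {φ : M →* G}
    (hφ : Function.Injective φ) (hd : A ⊓ φ.range = ⊥) (hA : A ≤ K) (hK : ∀ m, φ m ∈ K) :
    Nat.card A * Nat.card M ≤ Nat.card K := by
  let f : A × M → K := fun z => ⟨z.1.1 * φ z.2, mul_mem (hA z.1.2) (hK z.2)⟩
  have hf : Function.Injective f := by
    intro z w h
    have h' : z.1.1 * φ z.2 = w.1.1 * φ w.2 := congrArg Subtype.val h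
    have e : w.1.1⁻¹ * z.1.1 = φ (w.2 * z.2⁻¹) := by
      rw [map_mul, map_inv, eq_mul_inv_iff_mul_eq, mul_assoc, h', inv_mul_cancel_left]
    have hm : w.1.1⁻¹ * z.1.1 ∈ A ⊓ φ.range :=
      Subgroup.mem_inf.2 ⟨mul_mem (inv_mem w.1.2) z.1.2, ⟨_, e.symm⟩⟩
    rw [hd, Subgroup.mem_bot] at hm
    have h1 : z.1.1 = w.1.1 := (inv_mul_eq_one.1 hm).symm
    rw [h1] at h'
    exact Prod.ext (Subtype.ext h1) (hφ (mul_left_cancel h'))
  exact (Nat.card_prod A M).symm.le.trans (Nat.card_le_card_of_injective f hf)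

open scoped Pointwise in
/-- The order of the join of a subgroup with a disjoint subgroup normalising it. -/
theorem card_sup_eq [Finite G] {A B : Subgroup G} (hn : B ≤ Subgroup.normalizer (A : Set G)) (hd : A ⊓ B = ⊥) :
    Nat.card ↥(A ⊔ B) = Nat.card A * Nat.card B := by
  refine le_antisymm ?_ (card_mul_le B.subtype_injective (by rwa [Subgroup.range_subtype]) le_sup_left
    fun m => Subgroup.mem_sup_right m.2)
  rw [← Nat.card_prod]
  refine Nat.card_le_card_of_surjective (fun z : A × B => (⟨z.1.1 * z.2.1, Subgroup.mul_mem_sup z.1.2 z.2.2⟩ :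
    ↥(A ⊔ B))) ?_
  rintro ⟨g, hg⟩
  have hm : g ∈ (A : Set G) * (B : Set G) :=
    (Subgroup.coe_mul_of_right_le_normalizer_left A B hn) ▸ hg
  obtain ⟨a, ha, b, hb, rfl⟩ := hm
  exact ⟨(⟨a, ha⟩, ⟨b, hb⟩), rfl⟩

end Cfsg.Agent.J4Model
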