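import Cfsg.Agent.Lib.J4Pres.Model.Lower
import Cfsg.Agent.Lib.J4Pres.Model.Normalise
import Cfsg.Agent.Lib.J4Pres.Bound.Index
import Cfsg.Agent.Lib.J4Pres.Bound.Instance
import Cfsg.Agent.Lib.M24Pres.J4

/-!
The order of the presented fourth Janko group: the index bound, the bound on the subgroup of the translation
and the divisors read in the model meet.
-/

set_option autoImplicit false
set_option maxRecDepth 100000

namespace Cfsg.Agent.J4Model

open Cfsg Cfsg.Agent.J4Bound Cfsg.Agent.J4Pres
open scoped Pointwise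

/-- The relations in the presented group. -/
noncomputable def R4 : Rels Spor.J4 := j4Rels M24Pres.psi M24Pres.psi_gx M24Pres.psi_gy

/-- The translation subgroup has the expected bound. -/
def HBound : Prop := Finite R4.H ∧ Nat.card R4.H ≤ 2 ^ 11 * 244823040

theorem rho_jx : rho jx = glX := PresentedGroup.toGroup.of _

theorem rho_jy : rho jy = glY := PresentedGroup.toGroup.of _

theorem rho_jt : rho jt = glT := PresentedGroup.toGroup.of _

/-- The element of a word in the presented group. -/
noncomputable def jWord (w : List ℕ) : Spor.J4 :=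
  (w.map fun k => if k = 0 then jx else if k = 1 then jy else if k = 2 then jy⁻¹ else jt).prod

theorem rho_jWord : ∀ w : List ℕ, rho (jWord w) = glWord w
  | [] => map_one rho
  | k :: w => by
    have h := rho_jWord w
    simp only [jWord, glWord, List.map_cons, List.prod_cons, map_mul] at h ⊢
    rw [h]
    congr 1
    unfold glLetter
    split_ifs
    exacts [rho_jx, rho_jy, by rw [map_inv, rho_jy], rho_jt]

theorem glWord_wV : glWord wV = rho R4.v := by
  have hy : glLetter 1 = glY := rfl
  have e : glWord Data.wTrans = (glY * glX) ^ 4 * glY⁻¹ * glX := by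
    have : Data.wTrans = rep 4 [1, 0] ++ [2, 0] := by decide +kernel
    rw [this, glWord_append, glWord_rep]
    simp [glWord, glLetter, mul_assoc]
  have hlet : ∀ k ∈ Data.wTrans, k < 4 := by decide +kernel
  rw [wV, glWord_rep, glWord_append, glWord_append, glWord_append, glWord_winv hlet, e]
  show _ = rho ((M24Pres.psi gy * (M24Pres.psi gTrans)⁻¹ * jt * M24Pres.psi gTrans) ^ 3)
  simp only [gTrans, map_mul, map_pow, map_inv, M24Pres.psi_gx, M24Pres.psi_gy, rho_jx, rho_jy, rho_jt]
  simp [glWord, glLetter, mul_assoc]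

/-- The image of the Mathieu group in the matrix group. -/
noncomputable def phiM : M24 →* GM := rho.comp M24Pres.psi

theorem phiM_gx : phiM gx = glX := by rw [phiM, MonoidHom.comp_apply, M24Pres.psi_gx, rho_jx]

theorem phiM_gy : phiM gy = glY := by rw [phiM, MonoidHom.comp_apply, M24Pres.psi_gy, rho_jy]

theorem glX_ne : glX ≠ 1 := by
  have h := glWord_ne_of_app (u := [0]) (w := []) (v := 1) (Nat.one_lt_two_pow (by norm_num)) x_ne
  simpa [glWord, glLetter] using h

theorem phiM_injective : Function.Injective phiM := by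
  haveI := Golay.isSimpleGroup_M24
  refine phiM.ker_eq_bot_iff.1 ((Subgroup.Normal.eq_bot_or_eq_top (by infer_instance)).resolve_right
    fun h => glX_ne ?_)
  have : gx ∈ phiM.ker := by rw [h]; trivial
  rw [MonoidHom.mem_ker, phiM_gx] at this
  exact this

/-- The image of the translation subgroup. -/
noncomputable def HG : Subgroup GM := R4.H.map rho

theorem glX_mem_HG : glX ∈ HG := ⟨M24Pres.psi gx, R4.psi_mem_H gx, phiM_gx⟩

theorem glY_mem_HG : glY ∈ HG := ⟨M24Pres.psi gy, R4.psi_mem_H gy, phiM_gy⟩

theorem gu_mem_HG {i : ℕ} (hi : i < 11) : gu i ∈ HG := by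
  obtain ⟨g, e, hg⟩ := conjWord_eq hi
  have hw : glWord g ∈ HG := Subgroup.list_prod_mem _ fun a ha => by
    obtain ⟨k, hk, rfl⟩ := List.mem_map.1 ha
    have := hg k hk
    interval_cases k
    exacts [glX_mem_HG, glY_mem_HG]
  rw [e]
  exact mul_mem (mul_mem (inv_mem hw) ⟨R4.v, R4.v_mem_H, glWord_wV.symm⟩) hw

theorem UG_le_HG : UG ≤ HG := (Subgroup.closure_le _).2 fun u hu => by
  obtain ⟨i, hi, rfl⟩ := mem_uList.1 hu
  exact gu_mem_HG hi

theorem phiM_normalises (g : M24) {u : GM} (hu : u ∈ UG) : phiM g * u * (phiM g)⁻¹ ∈ UG := by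
  have hgx : glX⁻¹ = glX := (glLetter_inv 0 (by norm_num)).symm.trans rfl
  haveI : Finite GM := inferInstance
  have step : ∀ a : GM, (∀ i < 11, a⁻¹ * gu i * a ∈ UG) → a ∈ Subgroup.normalizer (UG : Set GM) :=
    fun a h => mem_normalizer_of_gens fun u hu => by
      obtain ⟨i, hi, rfl⟩ := mem_uList.1 hu
      exact h i hi
  have hle : (⊤ : Subgroup M24) ≤ (Subgroup.normalizer (UG : Set GM)).comap phiM := by
    rw [← closure_gx_gy, Subgroup.closure_le]
    rintro a (rfl | rfl)
    · refine Subgroup.mem_comap.2 ?_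
      rw [phiM_gx]
      exact step _ fun i hi => by rw [hgx, conj_x hi]; exact selEl_mem_UG _
    · refine Subgroup.mem_comap.2 ?_
      rw [phiM_gy]
      exact step _ fun i hi => by rw [conj_y hi]; exact selEl_mem_UG _
  exact (Subgroup.mem_normalizer_iff.1 (hle (Subgroup.mem_top g)) u).1 hu

theorem UG_inf_range : UG ⊓ phiM.range = ⊥ := by
  haveI := Golay.isSimpleGroup_M24
  have hn : (UG.comap phiM).Normal := ⟨fun a ha g => by
    show phiM (g * a * g⁻¹) ∈ UG
    rw [map_mul, map_mul, map_inv]
    exact phiM_normalises g ha⟩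
  rcases hn.eq_bot_or_eq_top with h | h
  · rw [eq_bot_iff]
    rintro _ ⟨hu, g, rfl⟩
    have : g ∈ UG.comap phiM := hu
    rw [h, Subgroup.mem_bot] at this
    simp [this]
  · exfalso
    have hle : phiM.range ≤ UG := by
      rintro _ ⟨g, rfl⟩
      have : g ∈ UG.comap phiM := by rw [h]; trivial
      exact this
    have h2 := Subgroup.card_dvd_of_le hle
    rw [card_UG, ← Nat.card_congr (MonoidHom.ofInjective phiM_injective).toEquiv, Golay.card_M24] at h2
    exact absurd (Nat.le_of_dvd (by norm_num) h2) (by norm_num)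

theorem card_HG_ge : 2 ^ 11 * 244823040 ≤ Nat.card HG := by
  haveI : Finite GM := inferInstance
  have h := card_mul_le phiM_injective UG_inf_range UG_le_HG
    (fun m => Subgroup.mem_map_of_mem rho (R4.psi_mem_H m))
  rwa [card_UG, Golay.card_M24] at h

/-- The translations joined with the Mathieu group. -/
noncomputable def UM : Subgroup GM := UG ⊔ phiM.range

theorem card_UM : Nat.card UM = 2 ^ 11 * 244823040 := by
  haveI : Finite GM := inferInstance
  have hn : phiM.range ≤ Subgroup.normalizer (UG : Set GM) := by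
    rintro _ ⟨g, rfl⟩
    refine Subgroup.mem_normalizer_iff.2 fun u => ⟨phiM_normalises g, fun hu => ?_⟩
    have h := phiM_normalises g⁻¹ hu
    rw [map_inv, inv_inv] at h
    convert h using 1
    group
  rw [UM, card_sup_eq hn UG_inf_range, card_UG,
    ← Nat.card_congr (MonoidHom.ofInjective phiM_injective).toEquiv, Golay.card_M24]

theorem UM_le_range : UM ≤ rho.range := by
  refine sup_le ((Subgroup.closure_le _).2 fun u hu => ?_) ?_
  · obtain ⟨i, hi, rfl⟩ := mem_uList.1 hu
    exact glWord_mem_range _
  · rintro _ ⟨g, rfl⟩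
    exact ⟨M24Pres.psi g, rfl⟩

/-- The image in the matrix group has order divisible by that of the fourth Janko group. -/
theorem dvd_range : 86775571046077562880 ∣ Nat.card rho.range := by
  have hB : 2 ^ 11 * 244823040 ∣ Nat.card rho.range := card_UM ▸ Subgroup.card_dvd_of_le UM_le_range
  have p29 := dvd_of_prime_order (p := 29) (by norm_num) pow_29 ne_29
  have p31 := dvd_of_prime_order (p := 31) (by norm_num) pow_31 ne_31
  have p37 := dvd_of_prime_order (p := 37) (by norm_num) pow_37 ne_37
  have p43 := dvd_of_prime_order (p := 43) (by norm_num) pow_43 ne_43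
  have e : (86775571046077562880 : ℕ) =
      Nat.lcm (Nat.lcm (Nat.lcm (Nat.lcm (Nat.lcm (2 ^ 11 * 244823040) 29) 31) 37) 43) 1331 := by
    decide +kernel
  rw [e]
  exact Nat.lcm_dvd (Nat.lcm_dvd (Nat.lcm_dvd (Nat.lcm_dvd (Nat.lcm_dvd hB p29) p31) p37) p43) dvd_1331

theorem le_range : 86775571046077562880 ≤ Nat.card rho.range := by
  haveI : Finite GM := inferInstance
  exact Nat.le_of_dvd Nat.card_pos dvd_range

section

variable (hH : HBound)
include hH

theorem card_H : Nat.card R4.H = 2 ^ 11 * 244823040 ∧ Nat.card HG = 2 ^ 11 * 244823040 := by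
  haveI := hH.1
  have h1 : Nat.card HG ≤ Nat.card R4.H :=
    Nat.card_le_card_of_surjective (rho.subgroupMap R4.H) (rho.subgroupMap_surjective R4.H)
  exact ⟨le_antisymm hH.2 (card_HG_ge.trans h1), le_antisymm (h1.trans hH.2) card_HG_ge⟩

theorem finite_J4 : Finite Spor.J4 := by
  haveI := hH.1
  haveI : R4.H.FiniteIndex := ⟨(R4.index_H (j4Rels_gen _ _ _)).1⟩
  exact Finite.of_subgroup_quotient R4.H

theorem bounds : R4.H.index = 173067389 ∧ Nat.card rho.range = Nat.card Spor.J4 ∧
    Nat.card Spor.J4 = 86775571046077562880 := by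
  haveI := finite_J4 hH
  obtain ⟨hidx0, hidx⟩ := R4.index_H (j4Rels_gen _ _ _)
  have hcard : R4.H.index * Nat.card R4.H = Nat.card Spor.J4 := R4.H.index_mul_card
  rw [(card_H hH).1] at hcard
  have hle : Nat.card rho.range ≤ Nat.card Spor.J4 :=
    Nat.card_le_card_of_surjective rho.rangeRestrict rho.rangeRestrict_surjective
  have hge := le_range
  refine ⟨?_, ?_, ?_⟩ <;> nlinarith [hge, hle, hidx, hcard]

theorem index_eq : R4.H.index = 173067389 := (bounds hH).1

theorem card_J4 : Nat.card Spor.J4 = 86775571046077562880 := (bounds hH).2.2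

theorem rho_injective : Function.Injective rho := by
  haveI := finite_J4 hH
  have h := rho.rangeRestrict_surjective.bijective_of_nat_card_le (le_of_eq (bounds hH).2.1.symm)
  exact fun a b e => h.1 (Subtype.ext e)

end

end Cfsg.Agent.J4Model
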