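import Cfsg.Agent.Lib.J4Pres.Model.Rep

/-!
All rows of a matrix packed into one number: one multiplication per row of the second factor.
-/

set_option autoImplicit false
set_option maxRecDepth 100000

namespace Cfsg.Agent.J4Model

/-- Rows packed with `n` bits each. -/
def pk (n : ℕ) : List ℕ → ℕ
  | [] => 0
  | a :: L => 2 ^ n * pk n L + a

/-- The lowest bit of every row. -/
def lanes (n : ℕ) : ℕ → ℕ
  | 0 => 0
  | m + 1 => 2 ^ n * lanes n m + 1

/-- The product of packed rows by a matrix, from bit `i` on. -/
noncomputable def pkApp (R V : ℕ) (A : List ℕ) (i : ℕ) : ℕ :=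
  List.rec (motive := fun _ => ℕ → ℕ) (fun _ => 0)
    (fun r _ ih i => Nat.xor (Nat.mul (Nat.land (Nat.shiftRight V i) R) r) (ih (Nat.add i 1))) A i

theorem pk_bit {n : ℕ} {a : ℕ} (ha : a < 2 ^ n) (Q j : ℕ) :
    (2 ^ n * Q + a).testBit j = if j < n then a.testBit j else Q.testBit (j - n) := by
  rw [Nat.testBit_two_pow_mul_add Q ha]

theorem pk_xor (n : ℕ) : ∀ (L : List ℕ) (f g : ℕ → ℕ), (∀ a ∈ L, f a < 2 ^ n) → (∀ a ∈ L, g a < 2 ^ n) →
    Nat.xor (pk n (L.map f)) (pk n (L.map g)) = pk n (L.map fun a => f a ^^^ g a)
  | [], _, _, _, _ => Nat.xor_self 0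
  | a :: L, f, g, hf, hg => by
    refine Nat.eq_of_testBit_eq fun j => ?_
    have h1 := hf a List.mem_cons_self
    have h2 := hg a List.mem_cons_self
    show ((2 ^ n * pk n (L.map f) + f a) ^^^ (2 ^ n * pk n (L.map g) + g a)).testBit j =
      (2 ^ n * pk n (L.map fun a => f a ^^^ g a) + (f a ^^^ g a)).testBit j
    rw [Nat.testBit_xor, pk_bit h1, pk_bit h2, pk_bit (Nat.xor_lt_two_pow h1 h2)]
    have ih := pk_xor n L f g (fun b hb => hf b (List.mem_cons_of_mem _ hb))
      (fun b hb => hg b (List.mem_cons_of_mem _ hb))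
    split_ifs
    · rw [Nat.testBit_xor]
    · rw [← Nat.testBit_xor]; exact congrArg (·.testBit (j - n)) ih

theorem pk_mul (n r : ℕ) : ∀ (L : List ℕ) (f : ℕ → ℕ),
    Nat.mul (pk n (L.map f)) r = pk n (L.map fun a => f a * r)
  | [], _ => Nat.zero_mul r
  | a :: L, f => by
    show (2 ^ n * pk n (L.map f) + f a) * r = 2 ^ n * pk n (L.map fun a => f a * r) + f a * r
    rw [← pk_mul n r L f]
    show _ = 2 ^ n * (pk n (L.map f) * r) + f a * r
    ring

theorem pk_mask {n i : ℕ} (hi : i < n) : ∀ L : List ℕ, (∀ a ∈ L, a < 2 ^ n) →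
    Nat.land (Nat.shiftRight (pk n L) i) (lanes n L.length) =
      pk n (L.map fun a => if a.testBit i then 1 else 0)
  | [], _ => by
    show ((0 : ℕ) >>> i) &&& 0 = 0
    simp
  | a :: L, hL => by
    have ha := hL a List.mem_cons_self
    have h1 : (1 : ℕ) < 2 ^ n := Nat.one_lt_two_pow (by omega)
    have hb : (if a.testBit i then 1 else 0 : ℕ) < 2 ^ n := by split_ifs <;> omega
    have ih := pk_mask hi L fun b hb => hL b (List.mem_cons_of_mem _ hb)
    refine Nat.eq_of_testBit_eq fun j => ?_
    show (((2 ^ n * pk n L + a) >>> i) &&& (2 ^ n * lanes n L.length + 1)).testBit j =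
      (2 ^ n * pk n (L.map fun a => if a.testBit i then 1 else 0) + if a.testBit i then 1 else 0).testBit j
    rw [Nat.testBit_and, Nat.testBit_shiftRight, pk_bit ha, pk_bit h1, pk_bit hb]
    by_cases hj : j < n
    · rw [if_pos hj, if_pos hj]
      rcases Nat.eq_zero_or_pos j with rfl | hj0
      · rw [Nat.add_zero, if_pos hi]
        cases a.testBit i <;> simp
      · have e : (1 : ℕ).testBit j = false := by
          rw [Nat.testBit_eq_false_of_lt]; exact Nat.one_lt_two_pow (by omega)
        rw [e, Bool.and_false]
        cases a.testBit i <;> simp [e]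
    · rw [if_neg hj, if_neg hj, if_neg (by omega), ← ih]
      show _ = ((pk n L >>> i) &&& lanes n L.length).testBit (j - n)
      rw [Nat.testBit_and, Nat.testBit_shiftRight, show i + j - n = i + (j - n) by omega]

/-- Rows below the bound. -/
def small (n : ℕ) (A : List ℕ) : Prop := ∀ r ∈ A, r < 2 ^ n

theorem app_lt {n : ℕ} : ∀ {A : List ℕ}, small n A → ∀ v, app v A < 2 ^ n
  | [], _, v => Nat.two_pow_pos n
  | r :: rs, h, v => by
    rw [app]
    refine Nat.xor_lt_two_pow ?_ (app_lt (fun s hs => h s (List.mem_cons_of_mem _ hs)) _)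
    cases Nat.beq (v % 2) 1
    · exact Nat.two_pow_pos n
    · exact h r List.mem_cons_self

theorem pkApp_spec {n : ℕ} : ∀ (A : List ℕ) (i : ℕ) (L : List ℕ), small n L → small n A →
    i + A.length ≤ n →
    pkApp (lanes n L.length) (pk n L) A i = pk n (L.map fun a => app (a >>> i) A)
  | [], i, L, _, _, _ => by
    show 0 = _
    clear * - L
    induction L with
    | nil => rfl
    | cons a L ih =>
      simp only [List.map_cons, pk, app] at ih ⊢
      rw [← ih]
      rfl
  | r :: rs, i, L, hL, hA, hle => by
    simp only [List.length_cons] at hle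
    have hrs : small n rs := fun s hs => hA s (List.mem_cons_of_mem _ hs)
    show Nat.xor (Nat.mul (Nat.land (Nat.shiftRight (pk n L) i) (lanes n L.length)) r)
      (pkApp (lanes n L.length) (pk n L) rs (i + 1)) = _
    rw [pk_mask (by omega) L hL, pk_mul, pkApp_spec rs (i + 1) L hL hrs (by omega), pk_xor]
    · refine congrArg (pk n) (List.map_congr_left fun a _ => ?_)
      rw [app]
      have e : a >>> (i + 1) = (a >>> i) / 2 := by
        rw [Nat.shiftRight_succ]
      rw [e]
      congr 1
      have e2 : a.testBit i = decide ((a >>> i) % 2 = 1) := by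
        rw [← Nat.testBit_zero, Nat.testBit_shiftRight, Nat.add_zero]
      rw [e2]
      rcases Nat.mod_two_eq_zero_or_one (a >>> i) with h | h <;> simp [h, Nat.beq]
    · intro a _
      have := hA r List.mem_cons_self
      split_ifs <;> simpa using this
    · exact fun a _ => app_lt hrs _

/-- All rows of the word, packed. -/
noncomputable def pkWord (V : ℕ) (w : List ℕ) : ℕ :=
  List.rec (motive := fun _ => ℕ → ℕ) (fun V => V)
    (fun k _ ih V => ih (pkApp (lanes 112 112) V (letterRows k) 0)) w V

theorem small_letters : ∀ k, small 112 (letterRows k) := by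
  intro k
  unfold letterRows
  have h : ([Data.rowsX, Data.rowsY, Data.rowsYInv, Data.rowsT].all fun A =>
      A.all fun r => Nat.blt r (2 ^ 112)) = true := by decide +kernel
  simp only [List.all_cons, List.all_nil, Bool.and_eq_true, List.all_eq_true, Nat.blt_eq] at h
  split_ifs
  exacts [h.1, h.2.1, h.2.2.1, h.2.2.2.1]

theorem pkWord_spec : ∀ (w L : List ℕ), L.length = 112 → small 112 L →
    pkWord (pk 112 L) w = pk 112 (L.map fun a => appWord a w) ∧
      small 112 (L.map fun a => appWord a w)
  | [], L, _, hL => by simpa [appWord, pkWord] using hL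
  | k :: w, L, hl, hL => by
    have hs : small 112 (L.map fun a => app a (letterRows k)) := by
      intro r hr
      obtain ⟨a, -, rfl⟩ := List.mem_map.1 hr
      exact app_lt (small_letters k) _
    have ih := pkWord_spec w _ (by simpa using hl) hs
    rw [List.map_map] at ih
    refine ⟨?_, ?_⟩
    · show pkWord (pkApp (lanes 112 112) (pk 112 L) (letterRows k) 0) w = _
      have := pkApp_spec (letterRows k) 0 L hL (small_letters k) (by
        rw [(code_letter k).1])
      rw [hl] at this
      rw [this]
      simpa [Function.comp_def, appWord, Nat.shiftRight_zero] using ih.1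
    · simpa [Function.comp_def, appWord] using ih.2

theorem pk_inj {n : ℕ} : ∀ {L M : List ℕ}, small n L → small n M → L.length = M.length →
    pk n L = pk n M → L = M
  | [], [], _, _, _, _ => rfl
  | [], _ :: _, _, _, h, _ => by simp at h
  | _ :: _, [], _, _, h, _ => by simp at h
  | a :: L, b :: M, hL, hM, hl, h => by
    have ha := hL a List.mem_cons_self
    have hb := hM b List.mem_cons_self
    simp only [pk] at h
    have h1 := congrArg (· % 2 ^ n) h
    simp only [Nat.mul_add_mod, Nat.mod_eq_of_lt ha, Nat.mod_eq_of_lt hb] at h1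
    subst h1
    rw [pk_inj (fun r hr => hL r (List.mem_cons_of_mem _ hr))
      (fun r hr => hM r (List.mem_cons_of_mem _ hr)) (by simpa using hl)
      (Nat.eq_of_mul_eq_mul_left (Nat.two_pow_pos n) (Nat.add_right_cancel h))]

theorem units_small : small 112 units := by
  have h : units.all (fun r => Nat.blt r (2 ^ 112)) = true := by decide +kernel
  simpa [small, List.all_eq_true] using h

theorem units_length : units.length = 112 := by simp [units, one]

/-- The packed identity. -/
noncomputable def pkOne : ℕ := pk 112 units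

/-- The packed matrix of a word. -/
noncomputable def pkMat (w : List ℕ) : ℕ := pkWord pkOne w

theorem glWord_eq_of_pk {u w : List ℕ} (h : Nat.beq (pkMat u) (pkMat w) = true) :
    glWord u = glWord w := by
  have e := Nat.eq_of_beq_eq_true h
  obtain ⟨h1, s1⟩ := pkWord_spec u units units_length units_small
  obtain ⟨h2, s2⟩ := pkWord_spec w units units_length units_small
  rw [pkMat, pkMat, pkOne, h1, h2] at e
  exact glWord_eq (pk_inj s1 s2 ((List.length_map _).trans (List.length_map _).symm) e)

theorem glWord_ne_of_app {u w : List ℕ} {v : ℕ} (hv : v < 2 ^ 112)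
    (h : Nat.beq (appWord v u) (appWord v w) = false) : glWord u ≠ glWord w := by
  intro e
  have h1 := congrArg (fun g : GL (Fin 112) (ZMod 2) =>
    Matrix.vecMul (toVec 112 v) (g : Matrix (Fin 112) (Fin 112) (ZMod 2))) e
  simp only [vecMul_appWord] at h1
  have lt : ∀ (w : List ℕ) (v : ℕ), v < 2 ^ 112 → appWord v w < 2 ^ 112 := by
    intro w
    induction w with
    | nil => intro v hv; exact hv
    | cons k w ih => intro v _; exact ih _ (app_lt (small_letters k) _)
  have : appWord v u = appWord v w := by
    refine Nat.eq_of_testBit_eq fun j => ?_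
    by_cases hj : j < 112
    · have := congrFun h1 ⟨j, hj⟩
      simp only [toVec] at this
      revert this
      cases (appWord v u).testBit j <;> cases (appWord v w).testBit j <;> simp
    · rw [Nat.testBit_eq_false_of_lt ((lt u v hv).trans_le (Nat.pow_le_pow_right (by omega) (by omega))),
        Nat.testBit_eq_false_of_lt ((lt w v hv).trans_le (Nat.pow_le_pow_right (by omega) (by omega)))]
  rw [this] at h
  simp at h

end Cfsg.Agent.J4Model
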