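import Cfsg.Agent.Lib.J4Pres.Model.LowerWords
import Cfsg.Agent.Lib.J4Pres.Model.MatData

/-! Products of stored matrices, checked on packed rows. -/

set_option autoImplicit false
set_option maxRecDepth 100000

namespace Cfsg.Agent.J4Model

/-- The rows are below the bound and 112 in number. -/
def okRows (M : List ℕ) : Bool := Nat.beq M.length 112 && M.all fun r => Nat.blt r (2 ^ 112)

/-- The matrix is that of the word. -/
noncomputable def isMat (w M : List ℕ) : Bool := okRows M && Nat.beq (pkMat w) (pk 112 M)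

/-- A product of matrices, packed. -/
noncomputable def pkProdFrom (V : ℕ) (Ms : List (List ℕ)) : ℕ :=
  List.rec (motive := fun _ => ℕ → ℕ) (fun V => V)
    (fun M _ ih V => ih (pkApp (lanes 112 112) V M 0)) Ms V

/-- Two products of matrices agree. -/
noncomputable def prodEq (Ms Ns : List (List ℕ)) : Bool :=
  Nat.beq (pkProdFrom pkOne Ms) (pkProdFrom pkOne Ns)

theorem okRows_spec {M : List ℕ} (h : okRows M = true) : M.length = 112 ∧ small 112 M := by
  simp only [okRows, Bool.and_eq_true, Nat.beq_eq, List.all_eq_true, Nat.blt_eq] at h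
  exact h

theorem code_small {w M : List ℕ} (h : isMat w M = true) : small 112 M ∧ Code M (glWord w) := by
  simp only [isMat, Bool.and_eq_true, Nat.beq_eq] at h
  obtain ⟨hl, hs⟩ := okRows_spec h.1
  obtain ⟨h1, s1⟩ := pkWord_spec w units units_length units_small
  refine ⟨hs, ?_⟩
  rw [pk_inj hs s1 (by rw [hl, List.length_map, units_length]) (by rw [← h1]; exact h.2.symm)]
  exact code_word w

theorem pkProd_spec : ∀ (Ps : List (List ℕ × GL (Fin 112) (ZMod 2))) (L : List ℕ)
    (g : GL (Fin 112) (ZMod 2)), Code L g → small 112 L →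
      (∀ p ∈ Ps, Code p.1 p.2 ∧ small 112 p.1) →
      ∃ R, pkProdFrom (pk 112 L) (Ps.map Prod.fst) = pk 112 R ∧ small 112 R ∧
        Code R (g * (Ps.map Prod.snd).prod)
  | [], L, g, hg, hL, _ => ⟨L, rfl, hL, by simpa using hg⟩
  | (M, m) :: Ps, L, g, hg, hL, h => by
    obtain ⟨hM, hs⟩ := h (M, m) List.mem_cons_self
    have hs' : small 112 (J4Model.mul L M) := by
      intro r hr
      obtain ⟨a, -, rfl⟩ := List.mem_map.1 hr
      exact app_lt hs _
    obtain ⟨R, h1, h2, h3⟩ := pkProd_spec Ps _ _ (hg.mul hM) hs'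
      fun p hp => h p (List.mem_cons_of_mem _ hp)
    refine ⟨R, ?_, h2, ?_⟩
    · have := pkApp_spec M 0 L hL hs (by rw [hM.1])
      rw [hg.1] at this
      show pkProdFrom (pkApp (lanes 112 112) (pk 112 L) M 0) (Ps.map Prod.fst) = _
      rw [this]
      simpa [Nat.shiftRight_zero, J4Model.mul] using h1
    · simpa [mul_assoc] using h3

theorem prodEq_spec {Ps Qs : List (List ℕ × GL (Fin 112) (ZMod 2))}
    (hP : ∀ p ∈ Ps, Code p.1 p.2 ∧ small 112 p.1) (hQ : ∀ p ∈ Qs, Code p.1 p.2 ∧ small 112 p.1)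
    (h : prodEq (Ps.map Prod.fst) (Qs.map Prod.fst) = true) :
    (Ps.map Prod.snd).prod = (Qs.map Prod.snd).prod := by
  obtain ⟨R, h1, h2, h3⟩ := pkProd_spec Ps units 1 (code_one 112) units_small hP
  obtain ⟨R', h1', h2', h3'⟩ := pkProd_spec Qs units 1 (code_one 112) units_small hQ
  have e := Nat.eq_of_beq_eq_true h
  rw [pkOne, h1, h1'] at e
  rw [one_mul] at h3 h3'
  obtain rfl := pk_inj h2 h2' (by rw [h3.1, h3'.1]) e
  exact h3.eq h3'

/-- The matrices selected by the bits. -/
def selMats : List (List ℕ) → ℕ → List (List ℕ)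
  | [], _ => []
  | M :: Ms, e => (bif Nat.beq (e % 2) 1 then [M] else []) ++ selMats Ms (e / 2)

end Cfsg.Agent.J4Model
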