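import Cfsg.Agent.Lib.J4Pres.Model.Words

/-! The relators hold in the model. -/

set_option autoImplicit false
set_option maxRecDepth 100000

namespace Cfsg.Agent.J4Model

theorem rel_y : wordMat (rep 3 [1]) = one 112 := by decide +kernel

theorem rel_xy : wordMat (rep 23 [0, 1]) = one 112 := by decide +kernel

theorem rel_c12 : wordMat (rep 12 [0, 2, 0, 1]) = one 112 := by decide +kernel

theorem rel_c5 : wordMat (rep 5 [0, 2, 0, 2, 0, 1, 0, 1]) = one 112 := by decide +kernel

theorem rel_six : wordMat (rep 4 ([0, 1] ++ rep 3 [0, 1, 0, 2])) = one 112 := by decide +kernel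

theorem rel_seven : wordMat (rep 3 [0, 1, 0, 1, 0, 2] ++ rep 3 [0, 1, 0, 2, 0, 2]) = one 112 := by
  decide +kernel

theorem rel_ts : wordMat ([3] ++ winv wS ++ [3] ++ wS) = one 112 := by decide +kernel

theorem rel_tx : wordMat [3, 0, 3, 0] = one 112 := by decide +kernel

theorem rel_line : wordMat (rep 3 ([1] ++ winv wLine ++ [3] ++ wLine)) = one 112 := by decide +kernel

theorem rel_last : wordMat (rep 2 (wFour ++ [3] ++ (winv wLast ++ [3] ++ wLast))) = one 112 := by
  decide +kernel

end Cfsg.Agent.J4Model
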