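import Cfsg.Agent.Lib.J4Pres.Model.Mat
import Cfsg.Agent.Lib.J4Pres.Model.Data

/-! Words in the model of the presented fourth Janko group: `0` is `x`, `1` is `y`, `2` is `y⁻¹`, `3` is `t`. -/

set_option autoImplicit false

namespace Cfsg.Agent.J4Model

/-- The matrices of the four letters. -/
def letterRows (k : ℕ) : List ℕ :=
  if k = 0 then Data.rowsX else if k = 1 then Data.rowsY else if k = 2 then Data.rowsYInv else Data.rowsT

/-- The image of a coded vector under a word. -/
def appWord : ℕ → List ℕ → ℕ
  | v, [] => v
  | v, k :: w => appWord (app v (letterRows k)) w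

/-- The unit vectors. -/
def units : List ℕ := one 112

/-- The matrix of a word. -/
def wordMat (w : List ℕ) : List ℕ := units.map fun e => appWord e w

/-- Repeat a word. -/
def rep : ℕ → List ℕ → List ℕ
  | 0, _ => []
  | n + 1, w => rep n w ++ w

/-- The word of `y x y (x y⁻¹) ^ 2 (x y) ^ 3`. -/
def wS : List ℕ := [1, 0, 1] ++ rep 2 [0, 2] ++ rep 3 [0, 1]

/-- The inverse of a word. -/
def winv (w : List ℕ) : List ℕ :=
  (w.map fun k => if k = 1 then 2 else if k = 2 then 1 else k).reverse

/-- The word of the conjugator of the translated line relator. -/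
def wLine : List ℕ := [1, 0, 2, 0, 1, 0, 2, 0]

/-- The word of the element of order four. -/
def wFour : List ℕ := rep 3 [1, 0, 1, 0, 1, 0, 1]

/-- The word of the conjugator of the last relator. -/
def wLast : List ℕ := rep 3 [0, 1] ++ [1] ++ rep 6 [0, 1] ++ [1]

end Cfsg.Agent.J4Model
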